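import Cfsg.Agent.S4435
import Cfsg.Agent.S4436
import Cfsg.Agent.S4492
import Cfsg.Agent.S0914
import Cfsg.Agent.S0025
import Cfsg.Agent.OddOrderCharacters.PF9.CliffGen
import Cfsg.Agent.H662.IndLocal
import Cfsg.Agent.Blocks.Knorr
import Cfsg.Prelude.Def_Local
import Mathlib
import Cfsg.Agent.Solvable.SchurZassenhausConj
import Cfsg.Agent.Lib.Cores
import Cfsg.Agent.Lib.FrattiniBasic
import Cfsg.Agent.H586.GW.Final
import Cfsg.Agent.PLocal.Constrained
import Cfsg.Agent.H397.GW.Num_m3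
import Cfsg.Agent.FastGrp
import Cfsg.Agent.Prune
set_option linter.all false

section
prune_inst 0x7f00000000000000000000000000000000000000000000000000000000000000000000000000000000000000000000000000000000000000000000000000000000000000000000000000000000000000003fffffffffffffffffffffffffffbeffbdffffffff

-- part: H37/NW/Red
section
set_option linter.all false
open scoped Cfsg.Agent.FastGrp

/-!
# Navarro–Wolf: reduction of S4979, S4980 to an invariant character of `O_{q'}(G)`
-/

set_option autoImplicit false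

open Cfsg Subgroup

namespace Cfsg.Agent.H37.NW

universe u

/-- All members of `Irr(G | θ)` have degree prime to `p`. -/
def DegP (p : ℕ) {G : Type u} [Group G] [Finite G] (N : Subgroup G) (θ : IrrCharacter N) : Prop :=
  haveI := Fintype.ofFinite N
  ∀ χ : IrrCharacter G, classInner (fun n : N => (χ : G → ℂ) n) (θ : N → ℂ) ≠ 0 →
    ¬ p ∣ charDegree (χ : G → ℂ)

/-- `θ` is invariant. -/
def Invt {G : Type u} [Group G] (N : Subgroup G) [hN : N.Normal] (θ : IrrCharacter N) : Prop :=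
  ∀ (g : G) (n : N), (θ : N → ℂ) ⟨g * n * g⁻¹, hN.conj_mem n n.2 g⟩ = (θ : N → ℂ) n

/-- The stabiliser of `θ`. -/
def stab {G : Type u} [Group G] (N : Subgroup G) [hN : N.Normal] (θ : N → ℂ) : Subgroup G where
  carrier := {g | ∀ n : N, θ ⟨g * n * g⁻¹, hN.conj_mem n n.2 g⟩ = θ n}
  one_mem' := fun n => by simp
  mul_mem' := by
    intro a b ha hb n
    have h1 := ha ⟨b * n * b⁻¹, hN.conj_mem n n.2 b⟩
    have h2 := hb n
    rw [← h2, ← h1]
    congr 2
    simp only [mul_inv_rev, mul_assoc]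
  inv_mem' := by
    intro a ha n
    have h1 := ha ⟨a⁻¹ * n * a⁻¹⁻¹, hN.conj_mem n n.2 a⁻¹⟩
    rw [← h1]
    congr 2
    simp only [inv_inv]
    group

variable {p q : ℕ} [hp : Fact p.Prime] [hq : Fact q.Prime]

omit hq in
/-- a Sylow subgroup of a subgroup of index prime to `p` -/
theorem exists_sylow_map {G : Type u} [Group G] [Finite G] {T : Subgroup G} (hT : ¬ p ∣ T.index)
    (P : Sylow p T) : ∃ S : Sylow p G, (S : Subgroup G) = (P : Subgroup T).map T.subtype := by
  have h1 : Nat.card ((P : Subgroup T).map T.subtype) = p ^ (Nat.card G).factorization p := by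
    rw [Nat.card_congr ((P : Subgroup T).equivMapOfInjective T.subtype T.subtype_injective).toEquiv.symm,
      P.card_eq_multiplicity, ← Subgroup.card_mul_index T,
      Nat.factorization_mul Nat.card_pos.ne' Subgroup.index_ne_zero_of_finite, Finsupp.add_apply,
      Nat.factorization_eq_zero_of_not_dvd hT, add_zero]
  exact ⟨Sylow.ofCard _ h1, Sylow.coe_ofCard _ h1⟩

theorem normalizer_map_le {G : Type u} [Group G] {T : Subgroup G} {D P : Subgroup T}
    (h : D ≤ normalizer (P : Set T)) : D.map T.subtype ≤ normalizer ((P.map T.subtype : Subgroup G) : Set G) := by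
  rintro _ ⟨d, hd, rfl⟩
  rw [Subgroup.mem_normalizer_iff]
  intro x
  have h1 := Subgroup.mem_normalizer_iff.1 (h hd)
  constructor
  · rintro ⟨y, hy, rfl⟩
    exact ⟨d * y * d⁻¹, (h1 y).1 hy, rfl⟩
  · rintro ⟨y, hy, hyx⟩
    refine ⟨d⁻¹ * y * d, ?_, ?_⟩
    · apply (h1 _).2
      have : d * (d⁻¹ * y * d) * d⁻¹ = y := by group
      rw [this]; exact hy
    · have h2 : (y : G) = d * x * (d : G)⁻¹ := hyx
      show ((d : G)⁻¹ * y * d) = x
      rw [h2]; group

/-- conjugation -/
theorem exists_sylow_conj {G : Type u} [Group G] [Finite G] {D : Subgroup G} {P : Sylow p G} (x : G)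
    (h : D ≤ normalizer ((P : Subgroup G) : Set G)) :
    ∃ S : Sylow p G, D.map (MulAut.conj x).toMonoidHom ≤ normalizer ((S : Subgroup G) : Set G) := by
  refine ⟨x • P, ?_⟩
  rintro _ ⟨d, hd, rfl⟩
  have h1 := Subgroup.mem_normalizer_iff.1 (h hd)
  rw [Subgroup.mem_normalizer_iff]
  intro y
  have key : ∀ z : G, z ∈ ((x • P : Sylow p G) : Subgroup G) ↔ x⁻¹ * z * x ∈ (P : Subgroup G) := by
    intro z
    rw [Sylow.coe_subgroup_smul, Subgroup.mem_pointwise_smul_iff_inv_smul_mem]
    simp [MulAut.smul_def]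
  rw [key, key, h1]
  simp only [MulEquiv.coe_toMonoidHom, MulAut.conj_apply]
  have : d * (x⁻¹ * y * x) * d⁻¹ = x⁻¹ * (x * d * x⁻¹ * y * (x * d * x⁻¹)⁻¹) * x := by group
  rw [this]

theorem reduce (hpq : p ≠ q) (C : ∀ (G : Type u) [Group G], Prop)
    (hC : ∀ (G : Type u) [Group G] (H : Subgroup G), C G → C H)
    (hCq : ∀ (G : Type u) [Group G] [Finite G], C G → IsPSolvable q G)
    (core : ∀ (G : Type u) [Group G] [Finite G], C G → ∀ θ : IrrCharacter (pPrimeCore q G),
      Invt (pPrimeCore q G) θ → DegP p (pPrimeCore q G) θ → ¬ p ∣ (pPrimeCore q G).index)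
    (n : ℕ) : ∀ (G : Type u) [Group G] [Finite G], Nat.card G = n → C G → ∀ (M : Ideal AlgInt)
      (_ : IsPModular q M) (B : Set (IrrCharacter G)) (_ : IsPBlock M B) (Q : Subgroup G)
      (_ : IsDefectGroup q M B Q) (_ : ∀ χ ∈ B, ¬ p ∣ charDegree (χ : G → ℂ)),
      ∃ P : Sylow p G, Q ≤ normalizer ((P : Subgroup G) : Set G) := by
  induction n using Nat.strong_induction_on with
  | _ n ih =>
  intro G _ _ hn hCG M hM B hB Q hQ hdeg
  classical
  letI : Fintype G := Fintype.ofFinite G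
  have hprime : M.IsPrime := Cfsg.Agent.Blocks.Local.isPrime_of_isPModular hM
  set N := pPrimeCore q G with hNdef
  haveI hN : N.Normal := inferInstance
  letI : Fintype N := Fintype.ofFinite N
  obtain ⟨χ₀, hχ₀⟩ := Cfsg.Agent.Blocks.Basic.isPBlock_nonempty hB
  -- a constituent on `N`
  obtain ⟨θ₀, hθ₀, hover⟩ := Cfsg.Agent.OddOrderCharacters.PF4Type.exists_irr_constituent
    (Cfsg.Agent.OddOrderCharacters.IndRes.isCharacter_res (H := N) (Cfsg.Agent.Characters.Core.isIrr_isCharacter χ₀.2))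
    (fun h => Cfsg.Agent.Blocks.Basic.irr_one_ne_zero χ₀.2 (congrFun h 1))
  set θ : IrrCharacter N := ⟨θ₀, hθ₀⟩
  have hNq : ¬ q ∣ Nat.card N := fun h =>
    hq.out.one_lt.ne' (Nat.dvd_one.1 (by
      have := Nat.dvd_gcd h (dvd_refl q)
      rwa [(Cfsg.Agent.Lib.Cores.pPrimeCore_coprime (G := G) q : (Nat.card N).Coprime q)] at this))
  have hb : IsPBlock M ({θ} : Set (IrrCharacter N)) := by
    refine ⟨θ, ?_⟩
    refine ((Cfsg.Agent.S0914.result q M hM θ).1 ?_).symm
    intro hd
    exact hNq (hd.trans (Nat.div_dvd_of_dvd (Cfsg.Agent.Blocks.Knorr.charDegree_dvd θ.2)))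
  set T := stab N (θ : N → ℂ) with hTdef
  letI : Fintype T := Fintype.ofFinite T
  have hT : ∀ g : G, g ∈ T ↔ ∀ θ' ∈ ({θ} : Set (IrrCharacter N)), ∀ θ'' : Cfsg.IrrCharacter N,
      (∀ n : N, (θ'' : N → ℂ) n = (θ' : N → ℂ) ⟨g * n * g⁻¹, hN.conj_mem n n.2 g⟩) → θ'' ∈ ({θ} : Set (IrrCharacter N)) := by
    intro g
    constructor
    · rintro hg _ rfl θ'' h
      exact Subtype.ext (funext fun n => (h n).trans (hg n))
    · intro h
      have hirr : IsIrrCharacter N (fun n : N => (θ : N → ℂ) ⟨g * n * g⁻¹, hN.conj_mem n n.2 g⟩) := by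
        have := Cfsg.Agent.Characters.Core.isIrr_comp (MulAut.conjNormal g : N ≃* N).toMonoidHom
          (MulAut.conjNormal g : N ≃* N).surjective θ.2
        exact this
      have h1 := h θ rfl ⟨_, hirr⟩ (fun n => rfl)
      intro n
      exact congrFun (congrArg Subtype.val h1) n
  have hNT : N ≤ T := by
    intro m hm n
    have := Cfsg.Agent.Characters.Core.isIrr_isClassFunction θ.2 n ⟨m, hm⟩
    exact this
  obtain ⟨B', hB', hcov, hind⟩ := (Cfsg.Agent.S4435.result q M hM N {θ} hb T hT hNT).2.2 B hB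
    ⟨χ₀, hχ₀, θ, rfl, hover⟩
  obtain ⟨hdef, hdeg'⟩ := Cfsg.Agent.S4436.result q M hM N {θ} hb T hT hNT B' hB' hcov B hind
  have hcd : ∀ ψ ∈ B', ¬ p ∣ T.index * charDegree (ψ : T → ℂ) := by
    intro ψ hψ
    obtain ⟨χ, hχ, h1, -⟩ := hdeg' ψ hψ
    have h2 : charDegree (χ : G → ℂ) = T.index * charDegree (ψ : T → ℂ) := by
      apply Cfsg.Agent.Blocks.Basic.charDegree_of_eq
      rw [h1, Cfsg.Agent.OddOrderCharacters.IndRes.indFun_apply_one,
        Cfsg.Agent.Blocks.Basic.irr_one_eq_charDegree ψ.2, Nat.cast_mul]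
    rw [← h2]
    exact hdeg χ hχ
  have hTp : ¬ p ∣ T.index := by
    obtain ⟨ψ, hψ, -⟩ := hcov
    exact fun h => hcd ψ hψ (h.mul_right _)
  by_cases htop : T = ⊤
  · -- invariant case
    have hinv : Invt N θ := fun g n => by
      have : g ∈ T := by rw [htop]; trivial
      exact this n
    obtain ⟨B₀, hB₀, hmem, hsyl, hdefS⟩ := Cfsg.Agent.S4492.result q M hM (hCq G hCG) N hNdef θ
      (fun g n => hinv g n)
    have hBB : B = B₀ := by
      rw [Cfsg.Agent.Blocks.Basic.isPBlock_eq_blockOf hB hχ₀,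
        Cfsg.Agent.Blocks.Basic.isPBlock_eq_blockOf hB₀ ((hmem χ₀).2 hover)]
    have hDP : DegP p N θ := by
      intro χ hχ
      refine hdeg χ ?_
      rw [hBB]
      refine (hmem χ).2 ?_
      convert hχ
    have hidx := core G hCG θ hinv hDP
    have hQp : IsPGroup q Q := Cfsg.Agent.Blocks.Basic.isPGroup_of_isDefectGroup hQ
    have hcop : (Nat.card Q).Coprime (Nat.card N) := by
      obtain ⟨k, hk⟩ := IsPGroup.iff_card.1 hQp
      rw [hk]
      exact Nat.Coprime.pow_left k ((Nat.Prime.coprime_iff_not_dvd hq.out).2 hNq)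
    obtain ⟨P, hP⟩ := Cfsg.Agent.S0025.exists_invariant_sylow Q N
      (Subgroup.normalizer_eq_top (H := N) ▸ le_top) hcop (Or.inl (by
        haveI := hQp.isNilpotent
        infer_instance)) p
    obtain ⟨S, hS⟩ := exists_sylow_map hidx P
    exact ⟨S, by rw [hS]; exact hP⟩
  · -- induction
    have hlt : Nat.card T < n := by
      rw [← hn]
      exact Nat.lt_of_le_of_ne (Subgroup.card_le_card_group T) fun h =>
        htop (Subgroup.eq_top_of_card_eq T h)
    obtain ⟨D, hD⟩ := Cfsg.Agent.H662.exists_defectGroup hM hB'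
    obtain ⟨P, hP⟩ := ih (Nat.card T) hlt T rfl (hC G T hCG) M hM B' hB' D hD
      (fun ψ hψ h => hcd ψ hψ (h.mul_left _))
    obtain ⟨x, hx⟩ := Cfsg.Agent.H662.defectGroup_conj hM hB (hdef D hD) hQ
    obtain ⟨S, hS⟩ := exists_sylow_map hTp P
    have h1 : D.map T.subtype ≤ normalizer ((S : Subgroup G) : Set G) := by
      rw [hS]
      exact normalizer_map_le hP
    obtain ⟨S', hS'⟩ := exists_sylow_conj x h1
    exact ⟨S', by rw [hx]; exact hS'⟩

end Cfsg.Agent.H37.NW
end

-- part: H37/NW/Ctx_mg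
section
set_option linter.all false
open scoped Cfsg.Agent.FastGrp

-- part: H37/NW/Lem
section
/-!
# Navarro–Wolf: group theoretic lemmas
-/

set_option autoImplicit false
set_option linter.style.haveILetI false
set_option linter.unusedSectionVars false

open Cfsg Subgroup

namespace Cfsg.Agent.H37.NW

universe u

variable {G : Type u} [Group G] [Finite G] {q : ℕ} [hq : Fact q.Prime]

omit [Finite G] hq in
theorem card_conj (g : G) (A : Subgroup G) :
    Nat.card ↥(A.map (MulAut.conj g).toMonoidHom) = Nat.card A :=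
  (Nat.card_congr (A.equivMapOfInjective _ (MulAut.conj g).injective).toEquiv).symm

/-- Frattini argument for complements. -/
theorem exists_compl {D L : Subgroup G} (hD : D.Normal) (hL : L.Normal) (hDL : D ≤ L)
    (hDq : IsPGroup q D) (hqL : ¬ q ∣ D.relIndex L) :
    ∃ A : Subgroup G, A ≤ L ∧ Disjoint D A ∧ D ⊔ A = L ∧ ¬ q ∣ Nat.card A ∧
      D ⊔ normalizer (A : Set G) = ⊤ := by
  classical
  obtain ⟨k, hk⟩ := IsPGroup.iff_card.1 hDq
  have hsD : Group.IsSolvable (D.subgroupOf L) := by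
    have h1 : IsPGroup q (D.subgroupOf L) := hDq.comap_subtype (K := L)
    haveI : Group.IsNilpotent (D.subgroupOf L) := h1.isNilpotent
    infer_instance
  have hcard : Nat.card (D.subgroupOf L) = q ^ k := by
    rw [Nat.card_congr (Subgroup.subgroupOfEquivOfLe hDL).toEquiv, hk]
  have hcop : (Nat.card (D.subgroupOf L)).Coprime (D.subgroupOf L).index := by
    rw [hcard]
    exact Nat.Coprime.pow_left k ((Nat.Prime.coprime_iff_not_dvd hq.out).2 hqL)
  obtain ⟨H, hH⟩ := Subgroup.exists_right_complement'_of_coprime hcop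
  -- translation: subgroups of `L` of the right order are complements
  have hcompl : ∀ B : Subgroup G, B ≤ L → Nat.card B = D.relIndex L →
      IsComplement' (D.subgroupOf L) (B.subgroupOf L) := by
    intro B hB hc
    apply Cfsg.Agent.Solvable.SchurZassenhausConj.isComplement'_of_card_eq_index _ _ hcop
    rw [Nat.card_congr (Subgroup.subgroupOfEquivOfLe hB).toEquiv, hc]
    rfl
  let A : Subgroup G := H.map L.subtype
  have hAL : A ≤ L := Subgroup.map_subtype_le H
  have hAs : A.subgroupOf L = H := Subgroup.comap_map_eq_self_of_injective L.subtype_injective H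
  have hAc : Nat.card A = D.relIndex L := by
    rw [← Nat.card_congr (Subgroup.subgroupOfEquivOfLe hAL).toEquiv, hAs]
    exact hH.symm.index_eq_card.symm
  have hA := hcompl A hAL hAc
  have hsup : D ⊔ A = L := by
    have h1 := hA.sup_eq_top
    have h2 := congrArg (Subgroup.map L.subtype) h1
    rw [Subgroup.map_sup, Subgroup.subgroupOf_map_subtype, Subgroup.subgroupOf_map_subtype,
      inf_eq_left.2 hDL, inf_eq_left.2 hAL, ← MonoidHom.range_eq_map, Subgroup.range_subtype] at h2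
    exact h2
  refine ⟨A, hAL, ?_, hsup, by rw [hAc]; exact hqL, ?_⟩
  · refine Subgroup.disjoint_of_coprime_natCard ?_
    rw [hk, hAc]
    exact Nat.Coprime.pow_left k ((Nat.Prime.coprime_iff_not_dvd hq.out).2 hqL)
  · rw [eq_top_iff]
    intro g _
    let B : Subgroup G := A.map (MulAut.conj g).toMonoidHom
    have hBL : B ≤ L := by
      rintro _ ⟨x, hx, rfl⟩
      exact hL.conj_mem x (hAL hx) g
    have hB := hcompl B hBL (by rw [card_conj, hAc])
    obtain ⟨s, hs⟩ := Cfsg.Agent.Solvable.SchurZassenhausConj.conj_of_solvable (D.subgroupOf L) hcop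
      (Or.inl hsD) _ _ hB hA
    have h1 := Cfsg.Agent.Solvable.SchurZassenhausConj.conj_of_conj_subgroupOf L B A hBL hAL s hs
    have h2 : (s : G) * g ∈ normalizer (A : Set G) := by
      have h3 : ∀ x ∈ A, (s : G) * g * x * ((s : G) * g)⁻¹ ∈ A := by
        intro x hx
        rw [← h1, Subgroup.mem_pointwise_smul_iff_inv_smul_mem]
        refine ⟨x, hx, ?_⟩
        simp only [MulAut.smul_def, mul_assoc, _root_.MulEquiv.toMonoidHom_eq_coe, _root_.MonoidHom.coe_coe, _root_.MulAut.conj_apply, _root_.mul_inv_rev, _root_.smul_mul', _root_.MulAut.inv_apply, _root_.MulAut.conj_symm_apply, _root_.inv_mul_cancel, _root_.one_mul, _root_.smul_inv', _root_.inv_inv, _root_.mul_inv_cancel, _root_.mul_one, _root_.mul_inv_cancel_left]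
      rw [Subgroup.mem_normalizer_iff]
      intro x
      refine ⟨h3 x, fun hx => ?_⟩
      -- finiteness
      have h4 : A.map (MulAut.conj ((s : G) * g)).toMonoidHom = A := by
        apply Subgroup.eq_of_le_of_card_ge
        · rintro _ ⟨y, hy, rfl⟩
          exact h3 y hy
        · rw [card_conj]
      rw [← h4] at hx
      obtain ⟨y, hy, hyx⟩ := hx
      have : y = x := by
        have h5 : ((s : G) * g) * y * ((s : G) * g)⁻¹ = ((s : G) * g) * x * ((s : G) * g)⁻¹ := hyx
        exact mul_left_cancel (mul_right_cancel h5)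
      rwa [← this]
    have h3 : g = (s : G)⁻¹ * ((s : G) * g) := by group
    rw [h3]
    have h4 : (s : G)⁻¹ ∈ D ⊔ A := by rw [hsup]; exact L.inv_mem s.2
    have h5 : D ⊔ A ≤ D ⊔ normalizer (A : Set G) := sup_le_sup_left Subgroup.le_normalizer D
    exact mul_mem (h5 h4) (Subgroup.mem_sup_right h2)

/-- A complement normalised by `D` is in the `q'`-core. -/
theorem le_pPrimeCore_of {D L A : Subgroup G} (hD : D.Normal) (hL : L.Normal)
    (hDq : IsPGroup q D) (hdis : Disjoint D A) (hsup : D ⊔ A = L) (hqA : ¬ q ∣ Nat.card A)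
    (hn : D ≤ normalizer (A : Set G)) : A ≤ pPrimeCore q G := by
  classical
  have hcomm : ∀ d ∈ D, ∀ a ∈ A, d * a = a * d := by
    intro d hd a ha
    have h1 : d * a * d⁻¹ * a⁻¹ ∈ D := by
      have : d * a * d⁻¹ * a⁻¹ = d * (a * d⁻¹ * a⁻¹) := by group
      rw [this]
      exact D.mul_mem hd (hD.conj_mem _ (D.inv_mem hd) a)
    have h2 : d * a * d⁻¹ * a⁻¹ ∈ A :=
      A.mul_mem ((Subgroup.mem_normalizer_iff.1 (hn hd) a).1 ha) (A.inv_mem ha)
    have h3 : d * a * d⁻¹ * a⁻¹ = 1 := Subgroup.disjoint_def.1 hdis h1 h2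
    rw [mul_inv_eq_one, mul_inv_eq_iff_eq_mul] at h3
    exact h3
  have hmem : ∀ x ∈ L, ∃ d ∈ D, ∃ a ∈ A, x = d * a := by
    intro x hx
    rw [← hsup] at hx
    have := Subgroup.mem_sup_of_normal_left.1 hx
    obtain ⟨d, hd, a, ha, h⟩ := this
    exact ⟨d, hd, a, ha, h.symm⟩
  have hAn : A.Normal := by
    constructor
    intro a ha g
    have h1 : g * a * g⁻¹ ∈ L := hL.conj_mem a (hsup ▸ Subgroup.mem_sup_right ha) g
    obtain ⟨d, hd, b, hb, h2⟩ := hmem _ h1
    have h3 : orderOf a = orderOf (g * a * g⁻¹) := by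
      have := (MulAut.conj g).orderOf_eq a
      rw [← this]; rfl
    have h4 : (g * a * g⁻¹) ^ Nat.card A = 1 := by
      rw [← orderOf_dvd_iff_pow_eq_one, ← h3]
      exact Subgroup.orderOf_dvd_natCard A ha
    rw [h2, (show Commute d b from hcomm d hd b hb).mul_pow] at h4
    have h5 : b ^ Nat.card A = 1 := by
      rw [← orderOf_dvd_iff_pow_eq_one]
      exact Subgroup.orderOf_dvd_natCard A hb
    rw [h5, mul_one] at h4
    obtain ⟨k, hk⟩ := hDq ⟨d, hd⟩
    have hk' : d ^ q ^ k = 1 := congrArg Subtype.val hk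
    have h6 : orderOf d ∣ q ^ k := orderOf_dvd_of_pow_eq_one hk'
    have h7 : orderOf d ∣ Nat.card A := orderOf_dvd_of_pow_eq_one h4
    have h8 : orderOf d = 1 := Nat.eq_one_of_dvd_coprimes
      (Nat.Coprime.pow_left k ((Nat.Prime.coprime_iff_not_dvd hq.out).2 hqA)) h6 h7
    rw [orderOf_eq_one_iff] at h8
    rw [h2, h8, one_mul]
    exact hb
  exact Cfsg.Agent.Lib.Cores.le_pPrimeCore hAn
    ((Nat.Prime.coprime_iff_not_dvd hq.out).2 hqA).symm

/-- A family of subgroups is nonempty: minimal supplement. -/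
theorem exists_min_supp (W : Subgroup G) : ∃ H : Subgroup G, W ⊔ H = ⊤ ∧
    ∀ H' : Subgroup G, H' ≤ H → W ⊔ H' = ⊤ → H' = H := by
  classical
  obtain ⟨H, hH, hmin⟩ := WellFounded.has_min (wellFounded_lt (α := Subgroup G))
    {H : Subgroup G | W ⊔ H = ⊤} ⟨⊤, by simp only [_root_.Set.mem_ofPred_eq, _root_.le_top, _root_.sup_of_le_right]⟩
  refine ⟨H, hH, fun H' hle h' => ?_⟩
  by_contra hne
  exact hmin H' h' (lt_of_le_of_ne hle hne)

omit hq in
/-- Dedekind -/
theorem dedekind {D H B : Subgroup G} (hD : D.Normal) (hDH : D ≤ H) (h : D ⊔ B = ⊤) :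
    D ⊔ (H ⊓ B) = H := by
  apply le_antisymm (sup_le hDH inf_le_left)
  intro x hx
  have h1 : x ∈ D ⊔ B := by rw [h]; trivial
  obtain ⟨d, hd, b, hb, rfl⟩ := Subgroup.mem_sup_of_normal_left.1 h1
  refine mul_mem (Subgroup.mem_sup_left hd) (Subgroup.mem_sup_right ⟨?_, hb⟩)
  have := H.mul_mem (H.inv_mem (hDH hd)) hx
  simpa using this

end Cfsg.Agent.H37.NW
end

-- part: H37/NW/TThree
section
/-!
# Navarro–Wolf: the inductive statement and the centralising Sylow subgroup
-/

set_option autoImplicit false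
set_option linter.style.haveILetI false
set_option linter.unusedSectionVars false

open Cfsg

namespace Cfsg.Agent.H37.NW

open Cfsg.Agent.Characters.Core Cfsg.Agent.Characters.Clifford Cfsg.Agent.H672
open Cfsg.Agent.H586.GW
open scoped commutatorElement

universe u

/-- The theorem for an invariant character of the `q'`-core of index `n`. -/
def T1 (p q n : ℕ) : Prop :=
  ∀ {G : Type u} [Group G] [Finite G] (N : Subgroup G) [N.Normal] (θ : N → ℂ),
    IsIrrCharacter N θ → inertia N θ = ⊤ → IsPSolvable p G → IsPSolvable q G →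
      pPrimeCore q G = N → N.index = n → RelP p N.subtype θ → ¬ p ∣ n

variable {p q : ℕ}

section
variable {G : Type u} [Group G] [Finite G] (N : Subgroup G) [hN : N.Normal]

theorem relP_up {θ : N → ℂ} (h : RelP p N.subtype θ) (hθ : IsIrrCharacter N θ)
    (M : Subgroup G) [M.Normal] (hNM : N ≤ M) {ψ : M → ℂ} (hψ : IsIrrCharacter M ψ)
    (hov : Over (Subgroup.inclusion hNM) ψ θ) : RelP p M.subtype ψ := by
  intro χ hχ h1 hd
  have h2 : Over N.subtype χ θ := by
    have e : M.subtype.comp (Subgroup.inclusion hNM) = N.subtype := rfl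
    rw [← e]
    exact (over_comp_iff _ _ (isIrr_isCharacter hχ) hθ).2 ⟨ψ, hψ, h1, hov⟩
  refine h χ hχ h2 (dvd_trans (mul_dvd_mul_left p ?_) hd)
  refine (charDegree_dvd_of_over_hom (Subgroup.inclusion hNM) (Subgroup.inclusion_injective hNM) ?_
    hψ hθ hov).1
  rw [Subgroup.inclusion_range]
  infer_instance

theorem relP_subgroupOf {θ : N → ℂ} (T : Subgroup G) (hNT : N ≤ T)
    (h : RelP p (Subgroup.inclusion hNT) θ) :
    RelP p (N.subgroupOf T).subtype (θ ∘ (Subgroup.subgroupOfEquivOfLe hNT)) := by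
  have h2 := relP_equiv (Subgroup.inclusion hNT) (Subgroup.subgroupOfEquivOfLe hNT) h
  have e : (Subgroup.inclusion hNT).comp (Subgroup.subgroupOfEquivOfLe hNT).toMonoidHom =
    (N.subgroupOf T).subtype := by ext; rfl
  rw [e] at h2
  exact h2

end

/-- A `q'`-normal subgroup centralises a normal `q`-subgroup. -/
theorem le_centralizer_of_coprime {G : Type u} [Group G] [Finite G] [hq : Fact q.Prime]
    {N U : Subgroup G} (hN : N.Normal) (hU : U.Normal) (hUq : IsPGroup q U)
    (hNq : ¬ q ∣ Nat.card N) : N ≤ Subgroup.centralizer (U : Set G) := by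
  have hdis : Disjoint N U := by
    obtain ⟨k, hk⟩ := IsPGroup.iff_card.1 hUq
    refine Subgroup.disjoint_of_coprime_natCard ?_
    rw [hk]
    exact (Nat.Coprime.pow_left k ((Nat.Prime.coprime_iff_not_dvd hq.out).2 hNq)).symm
  intro n hn
  rw [Subgroup.mem_centralizer_iff]
  intro u hu
  have h1 : u * n * u⁻¹ * n⁻¹ ∈ N := N.mul_mem (hN.conj_mem n hn u) (N.inv_mem hn)
  have h2 : u * n * u⁻¹ * n⁻¹ ∈ U := by
    have : u * n * u⁻¹ * n⁻¹ = u * (n * u⁻¹ * n⁻¹) := by group
    rw [this]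
    exact U.mul_mem hu (hU.conj_mem _ (U.inv_mem hu) n)
  have h3 : u * n * u⁻¹ * n⁻¹ = 1 := Subgroup.disjoint_def.1 hdis h1 h2
  rw [mul_inv_eq_one, mul_inv_eq_iff_eq_mul] at h3
  exact h3

/-- Some Sylow `p`-subgroup centralises every normal `q`-subgroup. -/
theorem exists_sylow_centralizer [hp : Fact p.Prime] [hq : Fact q.Prime] {n : ℕ}
    (h1 : ∀ k ≤ n, T1.{u} p q k) (m : ℕ) : m ≤ n → ∀ {G : Type u} [Group G] [Finite G]
    (N : Subgroup G) [N.Normal] (θ : N → ℂ), IsIrrCharacter N θ → IsPSolvable p G →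
      IsPSolvable q G → ¬ q ∣ Nat.card N → N.index = m → RelP p N.subtype θ →
      ∀ U : Subgroup G, U.Normal → IsPGroup q U →
      ∃ P : Sylow p G, (P : Subgroup G) ≤ Subgroup.centralizer (U : Set G) := by
  induction m using Nat.strong_induction_on with
  | _ m ih =>
  intro hmn G _ _ N _ θ hθ hps hqs hNq hidx hrel U hU hUq
  classical
  set E := pPrimeCore q G with hE
  have hEq : ¬ q ∣ Nat.card E := fun h => hq.out.one_lt.ne' (Nat.dvd_one.1 (by
    have := Nat.dvd_gcd h (dvd_refl q)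
    rwa [(Cfsg.Agent.Lib.Cores.pPrimeCore_coprime (G := G) q : (Nat.card E).Coprime q)] at this))
  have hNE : N ≤ E := Cfsg.Agent.Lib.Cores.le_pPrimeCore inferInstance
    ((Nat.Prime.coprime_iff_not_dvd hq.out).2 hNq).symm
  have hNU : N ≤ Subgroup.centralizer (U : Set G) :=
    le_centralizer_of_coprime inferInstance hU hUq hNq
  by_cases hEN : E = N
  · by_cases hinv : inertia N θ = ⊤
    · have h2 : ¬ p ∣ N.index := by
        rw [hidx]
        exact h1 m hmn N θ hθ hinv hps hqs hEN hidx hrel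
      obtain ⟨P⟩ : Nonempty (Sylow p G) := inferInstance
      exact ⟨P, (mem_of_not_dvd_index inferInstance h2 P.isPGroup').trans hNU⟩
    · set T := inertia N θ with hT
      have hTp : ¬ p ∣ T.index := hrel.not_dvd_index N hθ
      have hNT : N ≤ T := le_inertia (isIrr_isClassFunction hθ)
      have hUT : U ≤ T := by
        intro u hu
        rw [hT, mem_inertia_iff]
        intro x
        congr 1
        apply Subtype.ext
        have := Subgroup.mem_centralizer_iff.1 (hNU x.2) u hu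
        show u * (x : G) * u⁻¹ = x
        rw [this, mul_inv_cancel_right]
      have hlt : (N.subgroupOf T).index < m := by
        rw [← hidx]
        have h4 : N.relIndex T * T.index = N.index := Subgroup.relIndex_mul_index hNT
        have h5 : T.index ≠ 1 := fun h => hinv (Subgroup.index_eq_one.1 h)
        have h6 : T.index ≠ 0 := Subgroup.index_ne_zero_of_finite
        have h7 : N.relIndex T ≠ 0 := Subgroup.index_ne_zero_of_finite
        change N.relIndex T < N.index
        rw [← h4]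
        have h8 : 2 ≤ T.index := by omega
        nlinarith only [h8, Nat.pos_of_ne_zero h7]
      have hrT := relP_subgroupOf N T hNT (hrel.inertia N hθ T hT hNT)
      obtain ⟨P, hP⟩ := ih _ hlt (hlt.le.trans hmn) (N.subgroupOf T) _
        (isIrr_comp (Subgroup.subgroupOfEquivOfLe hNT).toMonoidHom
          (Subgroup.subgroupOfEquivOfLe hNT).surjective hθ)
        (Cfsg.Agent.Lib.PSolvable.IsPSolvable_of_injective p hps T.subtype T.subtype_injective)
        (Cfsg.Agent.Lib.PSolvable.IsPSolvable_of_injective q hqs T.subtype T.subtype_injective)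
        (by rw [Nat.card_congr (Subgroup.subgroupOfEquivOfLe hNT).toEquiv]; exact hNq) rfl hrT
        (U.subgroupOf T) inferInstance (hUq.comap_subtype (K := T))
      have h9 : Nat.card ((P : Subgroup T).map T.subtype) = p ^ (Nat.card G).factorization p := by
        rw [Nat.card_congr ((P : Subgroup T).equivMapOfInjective T.subtype T.subtype_injective).toEquiv.symm,
          P.card_eq_multiplicity, ← Subgroup.card_mul_index T,
          Nat.factorization_mul Nat.card_pos.ne' Subgroup.index_ne_zero_of_finite, Finsupp.add_apply,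
          Nat.factorization_eq_zero_of_not_dvd hTp, add_zero]
      refine ⟨Sylow.ofCard _ h9, ?_⟩
      rw [Sylow.coe_ofCard]
      rintro _ ⟨x, hx, rfl⟩
      rw [Subgroup.mem_centralizer_iff]
      intro u hu
      have h10 := Subgroup.mem_centralizer_iff.1 (hP hx) ⟨u, hUT hu⟩ hu
      exact congrArg Subtype.val h10
  · -- go up to the core
    have hlt : E.index < m := by
      rw [← hidx]
      have h4 : N.relIndex E * E.index = N.index := Subgroup.relIndex_mul_index hNE
      have h5 : N.relIndex E ≠ 1 := fun h => hEN (le_antisymm (Subgroup.relIndex_eq_one.1 h) hNE)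
      have h6 : E.index ≠ 0 := Subgroup.index_ne_zero_of_finite
      have h7 : N.relIndex E ≠ 0 := Subgroup.index_ne_zero_of_finite
      rw [← h4]
      have h8 : 2 ≤ N.relIndex E := by omega
      nlinarith only [h8, Nat.pos_of_ne_zero h6]
    obtain ⟨ψ, hψ, hov⟩ := exists_over_inj (Subgroup.inclusion hNE)
      (Subgroup.inclusion_injective hNE) hθ
    exact ih _ hlt (hlt.le.trans hmn) E ψ hψ hps hqs hEq rfl (relP_up N hrel hθ E hNE hψ hov) U hU hUq

end Cfsg.Agent.H37.NW
end

-- part: H37/NW/Ctx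
section
/-!
# Navarro–Wolf: structure of a minimal counterexample (central case)
-/

set_option autoImplicit false
set_option linter.style.haveILetI false
set_option linter.unusedSectionVars false

open Cfsg

namespace Cfsg.Agent.H37.NW

open Cfsg.Agent.Characters.Core Cfsg.Agent.Characters.Clifford Cfsg.Agent.H672
open Cfsg.Agent.H672.RM (over_lin_iff)
open Cfsg.Agent.H586.GW
open scoped commutatorElement

universe u

/-- The minimal counterexample, central case. -/
structure Ctx (p q : ℕ) {G : Type u} [Group G] [Finite G] (Z : Subgroup G) (l : Z →* ℂˣ) :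
    Prop where
  ne : p ≠ q
  cen : Z ≤ Subgroup.center G
  inj : Function.Injective l
  qZ : ¬ q ∣ Nat.card Z
  pZ : ¬ p ∣ Nat.card Z
  ps : IsPSolvable p G
  qs : IsPSolvable q G
  core : pPrimeCore q G = Z
  rel : RelP p Z.subtype (lf l)
  dvd : p ∣ Z.index
  ih : ∀ k < Z.index, T1.{u} p q k

/-- The minimal counterexample, central case, before the removal of the `p`-part. -/
structure Pre (p q : ℕ) {G : Type u} [Group G] [Finite G] (Z : Subgroup G) (l : Z →* ℂˣ) :
    Prop where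
  ne : p ≠ q
  cen : Z ≤ Subgroup.center G
  qZ : ¬ q ∣ Nat.card Z
  ps : IsPSolvable p G
  qs : IsPSolvable q G
  core : pPrimeCore q G = Z
  rel : RelP p Z.subtype (lf l)
  dvd : p ∣ Z.index
  ih : ∀ k < Z.index, T1.{u} p q k

theorem Ctx.pre {p q : ℕ} {G : Type u} [Group G] [Finite G] {Z : Subgroup G} {l : Z →* ℂˣ}
    (C : Ctx p q Z l) : Pre p q Z l :=
  ⟨C.ne, C.cen, C.qZ, C.ps, C.qs, C.core, C.rel, C.dvd, C.ih⟩

variable {p q : ℕ} [hp : Fact p.Prime] [hq : Fact q.Prime] {G : Type u} [Group G] [Finite G]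
  {Z : Subgroup G} {l : Z →* ℂˣ}

theorem inertia_central {G : Type u} [Group G] [Finite G] {Z : Subgroup G}
    (hZ : Z ≤ Subgroup.center G) [Z.Normal] (θ : Z → ℂ) : inertia Z θ = ⊤ := by
  rw [eq_top_iff]
  intro g _
  rw [mem_inertia_iff]
  intro n
  congr 1
  apply Subtype.ext
  show g * (n : G) * g⁻¹ = n
  rw [Subgroup.mem_center_iff.1 (hZ n.2) g, mul_inv_cancel_right]

theorem Ctx.zn (C : Ctx p q Z l) : Z.Normal := center_normal Z C.cen

theorem Pre.zn (C : Pre p q Z l) : Z.Normal := center_normal Z C.cen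

theorem Pre.low (C : Pre p q Z l) {M : Subgroup G} (hM : M.Normal) (hZM : Z ≤ M) (hMt : M ≠ ⊤) :
    ¬ p ∣ Z.relIndex M := by
  haveI := C.zn
  have h1 := relP_subgroupOf Z M hZM (C.rel.normal Z (isIrr_lf l) M hZM)
  have hcen : Z.subgroupOf M ≤ Subgroup.center M := by
    intro z hz
    rw [Subgroup.mem_center_iff]
    intro g
    exact Subtype.ext (Subgroup.mem_center_iff.1 (C.cen hz) (g : G))
  refine C.ih _ ?_ (Z.subgroupOf M) _ (isIrr_comp (Subgroup.subgroupOfEquivOfLe hZM).toMonoidHom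
      (Subgroup.subgroupOfEquivOfLe hZM).surjective (isIrr_lf l)) (inertia_central hcen _)
      (Cfsg.Agent.Lib.PSolvable.IsPSolvable_of_injective p C.ps M.subtype M.subtype_injective)
      (Cfsg.Agent.Lib.PSolvable.IsPSolvable_of_injective q C.qs M.subtype M.subtype_injective)
      ?_ rfl h1
  · have h4 : Z.relIndex M * M.index = Z.index := Subgroup.relIndex_mul_index hZM
    have h5 : M.index ≠ 1 := fun h => hMt (Subgroup.index_eq_one.1 h)
    have h6 : M.index ≠ 0 := Subgroup.index_ne_zero_of_finite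
    have h7 : Z.relIndex M ≠ 0 := Subgroup.index_ne_zero_of_finite
    rw [← h4]
    have h8 : 2 ≤ M.index := by omega
    nlinarith only [h8, Nat.pos_of_ne_zero h7]
  · have h2 := Cfsg.Agent.Lib.Cores.map_subtype_pPrimeCore q hM
    rw [C.core] at h2
    apply Subgroup.map_injective M.subtype_injective
    rw [h2, Subgroup.subgroupOf_map_subtype, inf_comm]

theorem Pre.exists_K (C : Pre p q Z l) : ∃ K : Subgroup G, K.Normal ∧ Z ≤ K ∧ K.index = p ∧
    ¬ p ∣ Z.relIndex K := by
  classical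
  haveI := C.zn
  -- a maximal normal subgroup
  have hZt : Z ≠ ⊤ := by
    intro h
    have := C.dvd
    rw [h, Subgroup.index_top] at this
    exact hp.out.one_lt.ne' (Nat.dvd_one.1 this)
  obtain ⟨K, ⟨hKn, hZK, hKt⟩, hmax⟩ := WellFounded.has_min (wellFounded_gt (α := Subgroup G))
    {M : Subgroup G | M.Normal ∧ Z ≤ M ∧ M ≠ ⊤} ⟨Z, C.zn, le_rfl, hZt⟩
  have hK1 := C.low hKn hZK hKt
  have hpK : p ∣ K.index := by
    have h4 : Z.relIndex K * K.index = Z.index := Subgroup.relIndex_mul_index hZK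
    have h5 := C.dvd
    rw [← h4] at h5
    exact (hp.out.dvd_mul.1 h5).resolve_left hK1
  have hbetween : ∀ M : Subgroup G, M.Normal → K ≤ M → M = K ∨ M = ⊤ := by
    intro M hM hKM
    by_contra hcon
    push Not at hcon
    exact hmax M ⟨hM, hZK.trans hKM, hcon.2⟩ (lt_of_le_of_ne hKM hcon.1.symm)
  haveI : Nontrivial (G ⧸ K) := QuotientGroup.nontrivial_iff.2 hKt
  have hsimp : ∀ M : Subgroup (G ⧸ K), M.Normal → M = ⊥ ∨ M = ⊤ := by
    intro M hM
    have h1 := hbetween (M.comap (QuotientGroup.mk' K)) (hM.comap _) (by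
      intro x hx
      show (QuotientGroup.mk' K x) ∈ M
      have : QuotientGroup.mk' K x = 1 := (QuotientGroup.eq_one_iff x).2 hx
      rw [this]
      exact one_mem M)
    rcases h1 with h | h
    · left
      rw [← Subgroup.map_comap_eq_self_of_surjective (QuotientGroup.mk'_surjective K) M, h,
        Subgroup.map_eq_bot_iff, QuotientGroup.ker_mk']
    · right
      rw [← Subgroup.map_comap_eq_self_of_surjective (QuotientGroup.mk'_surjective K) M, h]
      exact Subgroup.map_top_of_surjective _ (QuotientGroup.mk'_surjective K)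
  have hps : IsPSolvable p (G ⧸ K) :=
    Cfsg.Agent.Lib.PSolvable.IsPSolvable_of_surjective p C.ps _ (QuotientGroup.mk'_surjective K)
  have hcardQ : Nat.card (G ⧸ K) = K.index := rfl
  have hpg : IsPGroup p (G ⧸ K) := by
    rcases Cfsg.Agent.PLocal.Constrained.pCore_or_pPrimeCore_ne_bot hps with h | h
    · have h1 := (hsimp _ (Cfsg.Agent.Lib.Cores.pCore_normal p)).resolve_left h
      exact (Cfsg.Agent.Lib.Cores.pCore_eq_top_iff p).1 h1
    · exfalso
      have h1 := (hsimp _ (Cfsg.Agent.Lib.Cores.pPrimeCore_normal p)).resolve_left h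
      have h2 := Cfsg.Agent.Lib.Cores.pPrimeCore_coprime (G := G ⧸ K) p
      rw [h1, Subgroup.card_top, hcardQ] at h2
      have h3 := Nat.dvd_gcd hpK (dvd_refl p)
      rw [h2] at h3
      exact hp.out.one_lt.ne' (Nat.dvd_one.1 h3)
  -- a simple `p`-group
  have hZ : Subgroup.center (G ⧸ K) = ⊤ := by
    refine (hsimp _ inferInstance).resolve_left ?_
    haveI : Nontrivial (Subgroup.center (G ⧸ K)) := hpg.center_nontrivial
    exact (Subgroup.nontrivial_iff_ne_bot _).1 inferInstance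
  refine ⟨K, hKn, hZK, ?_, hK1⟩
  obtain ⟨x, hx⟩ := exists_prime_orderOf_dvd_card' (G := G ⧸ K) p (by rw [hcardQ]; exact hpK)
  have hxn : (Subgroup.zpowers x).Normal := by
    refine ⟨fun y hy g => ?_⟩
    have : y ∈ Subgroup.center (G ⧸ K) := by rw [hZ]; trivial
    rw [Subgroup.mem_center_iff.1 this g, mul_inv_cancel_right]
    exact hy
  have hxt : Subgroup.zpowers x = ⊤ := by
    refine (hsimp _ hxn).resolve_left ?_
    intro h
    rw [Subgroup.zpowers_eq_bot] at h
    rw [h, orderOf_one] at hx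
    exact hp.out.one_lt.ne hx
  rw [← hcardQ, ← Subgroup.card_top (G := G ⧸ K), ← hxt, Nat.card_zpowers, hx]

theorem Ctx.low (C : Ctx p q Z l) {M : Subgroup G} (hM : M.Normal) (hZM : Z ≤ M) (hMt : M ≠ ⊤) :
    ¬ p ∣ Z.relIndex M := C.pre.low hM hZM hMt

theorem Ctx.exists_K (C : Ctx p q Z l) : ∃ K : Subgroup G, K.Normal ∧ Z ≤ K ∧ K.index = p ∧
    ¬ p ∣ Nat.card K := by
  obtain ⟨K, hKn, hZK, hi, hK1⟩ := C.pre.exists_K
  refine ⟨K, hKn, hZK, hi, ?_⟩
  have h1 : Nat.card Z * Z.relIndex K = Nat.card K := by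
    have := Subgroup.relIndex_mul_relIndex ⊥ Z K bot_le hZK
    rwa [Subgroup.relIndex_bot_left, Subgroup.relIndex_bot_left] at this
  rw [← h1]
  intro h
  exact (hp.out.dvd_mul.1 h).elim C.pZ hK1

end Cfsg.Agent.H37.NW
end

-- part: H37/NW/Cov
section
/-!
# Character triples with a controlled kernel

The cover of `CharDeep.TripleCover` has a kernel whose exponent divides `θ(1) |N|`; so the central
subgroup of the associated central triple involves only primes dividing `|N|`.
-/

set_option autoImplicit false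
set_option linter.style.haveILetI false
set_option linter.unusedSectionVars false
open Cfsg

namespace Cfsg.Agent.H37.NW

open Representation Module Cfsg.Agent.CharDeep.IrrEquiv Cfsg.Agent.CharDeep.ProjExt
  Cfsg.Agent.CharDeep.TripleCover Cfsg.Agent.CharDeep
open Cfsg.Agent.Characters.Core Cfsg.Agent.Characters.Clifford Cfsg.Agent.H672
open Cfsg.Agent.H595.Triple Cfsg.Agent.H595.Central
open Cfsg.Agent.H672.RM (over_lin_iff TSet)
open Cfsg.Agent.H586.GW
open scoped ComplexConjugate commutatorElement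

universe u

section cover
variable {G V : Type*} [Group G] [AddCommGroup V] [Module ℂ V]

theorem exists_finite_cover' [FiniteDimensional ℂ V] [Finite G] {N : Subgroup G} [hN : N.Normal]
    (ρ : Representation ℂ N V) (hρ : ρ.IsIrreducible)
    (hinv : ∀ (g : G) (n : N), ρ.character (MulAut.conjNormal g n) = ρ.character n) :
    ∃ Δ : Subgroup (G × (V →ₗ[ℂ] V)ˣ), Finite Δ ∧ Δ ≤ intGroup ρ ∧
      Function.Surjective (proj Δ) ∧ (∀ n, sec ρ n ∈ Δ) ∧ (proj Δ).ker ≤ Subgroup.center Δ ∧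
      ∀ x ∈ (proj Δ).ker, x ^ (finrank ℂ V * Nat.card N) = 1 := by
  have hV : Nontrivial V := ((LinearChar.isIrreducible_iff ρ).1 hρ).1
  set m := Nat.card N with hm
  have hmpos : 0 < m := Nat.card_pos
  let D : (G × (V →ₗ[ℂ] V)ˣ) →* ℂˣ :=
    (Units.map (LinearMap.det : (V →ₗ[ℂ] V) →* ℂ)).comp (MonoidHom.snd G (V →ₗ[ℂ] V)ˣ)
  let P : (G × (V →ₗ[ℂ] V)ˣ) →* ℂˣ := (powMonoidHom m).comp D
  let Δ : Subgroup (G × (V →ₗ[ℂ] V)ˣ) := intGroup ρ ⊓ P.ker
  have hΔ : Δ ≤ intGroup ρ := inf_le_left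
  have hker : ∀ x : Δ, x ∈ (proj Δ).ker → ∃ c : ℂ, (x.1.2 : V →ₗ[ℂ] V) = c • (1 : V →ₗ[ℂ] V) :=
    fun x hx => exists_scalar_of_fst_eq_one ρ hρ x.1 (hΔ x.2) hx
  have hcp : ∀ (x : Δ) (c : ℂ), (x.1.2 : V →ₗ[ℂ] V) = c • (1 : V →ₗ[ℂ] V) →
      c ^ (finrank ℂ V * m) = 1 := by
    intro x c hc
    have h1 : P x.1 = 1 := x.2.2
    have h2 : (LinearMap.det (x.1.2 : V →ₗ[ℂ] V)) ^ m = 1 := congrArg Units.val h1
    rw [hc, LinearMap.det_smul, map_one, mul_one, ← pow_mul] at h2
    exact h2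
  refine ⟨Δ, ?_, hΔ, ?_, ?_, ?_, ?_⟩
  · -- finiteness
    have hfin : Finite (proj Δ).ker := by
      have hroots : Finite (rootsOfUnity (finrank ℂ V * m) ℂ) := by
        have : NeZero (finrank ℂ V * m) := ⟨(Nat.mul_pos finrank_pos hmpos).ne'⟩
        infer_instance
      choose c hc using hker
      have hcpow : ∀ (x : Δ) (hx : x ∈ (proj Δ).ker), c x hx ^ (finrank ℂ V * m) = 1 :=
        fun x hx => hcp x _ (hc x hx)
      have : NeZero (finrank ℂ V * m) := ⟨(Nat.mul_pos finrank_pos hmpos).ne'⟩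
      refine Finite.of_injective
        (fun x : (proj Δ).ker => (rootsOfUnity.mkOfPowEq (n := finrank ℂ V * m)
          (c x.1 x.2) (hcpow x.1 x.2))) ?_
      intro x y hxy
      have h3 : c x.1 x.2 = c y.1 y.2 := by
        have := congrArg (fun z : rootsOfUnity (finrank ℂ V * m) ℂ => ((z : ℂˣ) : ℂ)) hxy
        simpa using this
      apply Subtype.ext
      apply Subtype.ext
      refine Prod.ext ?_ (Units.ext ?_)
      · exact (x.2 : proj Δ x.1 = 1).trans (y.2 : proj Δ y.1 = 1).symm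
      · rw [hc x.1 x.2, hc y.1 y.2, h3]
    exact Finite.of_equiv _ (Subgroup.groupEquivQuotientProdSubgroup (s := (proj Δ).ker)).symm
  · intro g
    obtain ⟨T, hT, hTd⟩ := exists_mem_intGroup ρ hρ hinv g 1
    refine ⟨⟨(g, T), hT, ?_⟩, rfl⟩
    show (D (g, T)) ^ m = 1
    have : D (g, T) = 1 := Units.ext hTd
    rw [this, one_pow]
  · intro n
    refine ⟨sec_mem_intGroup ρ n, ?_⟩
    show (D (sec ρ n)) ^ m = 1
    rw [← map_pow, ← map_pow, hm, pow_card_eq_one', map_one, map_one]
  · intro x hx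
    obtain ⟨c, hc⟩ := hker x hx
    rw [Subgroup.mem_center_iff]
    intro y
    apply Subtype.ext
    refine Prod.ext ?_ (Units.ext ?_)
    · show y.1.1 * x.1.1 = x.1.1 * y.1.1
      have : x.1.1 = 1 := hx
      rw [this, mul_one, one_mul]
    · show ((y.1.2 * x.1.2 : (V →ₗ[ℂ] V)ˣ) : V →ₗ[ℂ] V) = ((x.1.2 * y.1.2 : (V →ₗ[ℂ] V)ˣ) : _)
      rw [Units.val_mul, Units.val_mul, hc, smul_mul_assoc, mul_smul_comm, one_mul, mul_one]
  · intro x hx
    obtain ⟨c, hc⟩ := hker x hx
    have h1 : x.1.1 = 1 := hx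
    apply Subtype.ext
    refine Prod.ext ?_ (Units.ext ?_)
    · show x.1.1 ^ _ = 1
      rw [h1, one_pow]
    · show ((x.1.2 ^ (finrank ℂ V * m) : (V →ₗ[ℂ] V)ˣ) : V →ₗ[ℂ] V) = 1
      rw [Units.val_pow_eq_pow_val, hc, smul_pow, one_pow, hcp x c hc, one_smul]

end cover

theorem exists_cov' {Γ : Type u} [Group Γ] [Finite Γ] (N : Subgroup Γ) [hN : N.Normal]
    (θ : IrrCharacter N) (hinv : Cfsg.Agent.H595.Count.CInv N (θ : N → ℂ)) :
    ∃ (Δ : Type u) (_ : Group Δ) (_ : Finite Δ) (π : Δ →* Γ) (s : N →* Δ) (χR : Δ → ℂ),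
      Cov N (θ : N → ℂ) Δ π s χR ∧ ∀ x ∈ π.ker, x ^ (charDegree (θ : N → ℂ) * Nat.card N) = 1 := by
  obtain ⟨k, ρ, hρ, hθ⟩ := θ.2
  have hinv' : ∀ (g : Γ) (n : N), ρ.character (MulAut.conjNormal g n) = ρ.character n := by
    intro g n
    rw [hθ, ← hinv g n]
    congr 1
  obtain ⟨Δ, hfin, hΔ, hsurj, hsec, hker, hpow⟩ := exists_finite_cover' ρ hρ hinv'
  let s : N →* Δ := (sec ρ).codRestrict Δ hsec
  have hRs : ∀ n, coverRep Δ (s n) = ρ n := fun n => sec_snd ρ n
  refine ⟨Δ, inferInstance, hfin, proj Δ, s, (coverRep Δ).character, ⟨hsurj, hker,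
    fun n => rfl, ?_, ?_, ?_⟩, ?_⟩
  · constructor
    rintro _ ⟨n, rfl⟩ x
    exact ⟨MulAut.conjNormal x.1.1 n, Subtype.ext (conj_sec ρ x.1 (hΔ x.2) n).symm⟩
  · refine isIrrCharacter_of_rep _ ?_
    refine Cfsg.Agent.CharactersDeep.IrrEquiv.isIrreducible_of_comp (coverRep Δ) s ?_
    have : (MonoidHom.comp (coverRep Δ) s : Representation ℂ N (Fin k → ℂ)) = ρ :=
      MonoidHom.ext fun n => hRs n
    rw [this]
    exact hρ
  · intro n
    rw [← hθ]
    show LinearMap.trace ℂ _ (coverRep Δ (s n)) = LinearMap.trace ℂ _ (ρ n)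
    rw [hRs]
  · intro x hx
    have h1 : charDegree (θ : N → ℂ) = finrank ℂ (Fin k → ℂ) := by
      apply Cfsg.Agent.Blocks.Basic.charDegree_of_eq
      rw [← hθ, Representation.char_one]
    rw [h1]
    exact hpow x hx

/-- A character triple isomorphism with a central triple whose central subgroup involves only
primes dividing `|N|`. -/
theorem exists_triple' {p : ℕ} [hp : Fact p.Prime] {Γ : Type u} [Group Γ] [Finite Γ] (N : Subgroup Γ)
    [hN : N.Normal] {θ : N → ℂ} (hθ : IsIrrCharacter N θ) (hinv : inertia N θ = ⊤) :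
    ∃ (Δ Q : Type u) (_ : Group Δ) (_ : Group Q) (_ : Finite Q) (π : Δ →* Γ) (m : Δ →* Q)
      (Z : Subgroup Q) (l : Z →* ℂˣ), Function.Surjective π ∧ Function.Surjective m ∧
        N.comap π = Z.comap m ∧ Z ≤ Subgroup.center Q ∧ (RelP p N.subtype θ → RelP p Z.subtype (lf l))
        ∧ ∀ r : ℕ, r.Prime → r ∣ Nat.card Z → r ∣ Nat.card N := by
  classical
  have hinv' : Cfsg.Agent.H595.Count.CInv N θ := by
    intro g n
    have h1 : g ∈ inertia N θ := by rw [hinv]; trivial
    exact mem_inertia_iff.1 h1 n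
  obtain ⟨Δ, hΔ, hΔf, π, s, χR, h, hexp⟩ := exists_cov' N ⟨θ, hθ⟩ hinv'
  have hLn := h.normal
  have hsec : ∀ n, π (s n) = n := h.section_
  let m : Δ →* Δ ⧸ s.range := QuotientGroup.mk' s.range
  have hm : Function.Surjective m := QuotientGroup.mk'_surjective _
  have hkm : m.ker = s.range := QuotientGroup.ker_mk' _
  let Z : Subgroup (Δ ⧸ s.range) := π.ker.map m
  have hZcomap : N.comap π = Z.comap m := by
    rw [Subgroup.comap_map_eq, hkm]
    apply le_antisymm
    · intro x hx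
      obtain ⟨n, z, hz, rfl⟩ := h.comap_eq x hx
      exact mul_mem (Subgroup.mem_sup_right ⟨n, rfl⟩) (Subgroup.mem_sup_left hz)
    · refine sup_le (fun x hx => ?_) ?_
      · show π x ∈ N
        rw [MonoidHom.mem_ker.1 hx]
        exact one_mem N
      · rintro _ ⟨n, rfl⟩
        show π (s n) ∈ N
        rw [hsec]
        exact n.2
  have hZc : Z ≤ Subgroup.center (Δ ⧸ s.range) := by
    rintro _ ⟨z, hz, rfl⟩
    rw [Subgroup.mem_center_iff]
    intro q
    obtain ⟨x, rfl⟩ := hm q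
    rw [← map_mul, ← map_mul, Subgroup.mem_center_iff.1 (h.ker_le hz) x]
  obtain ⟨c, hc, -⟩ := Cfsg.Agent.CharactersDeep.Extraspecial.exists_central_hom h.irr
  let c' : π.ker →* ℂˣ := c.comp (Subgroup.inclusion h.ker_le)
  have hc' : ∀ (x : Δ) (z : π.ker), χR (x * z) = χR x * c' z := fun x z =>
    hc x (Subgroup.inclusion h.ker_le z)
  let f : π.ker →* Z := (m.comp π.ker.subtype).codRestrict Z (fun z => ⟨z, z.2, rfl⟩)
  have hfb : Function.Bijective f := by
    constructor
    · rw [injective_iff_map_eq_one]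
      intro z hz
      have h1 : m (z : Δ) = 1 := congrArg (fun y : Z => (y : Δ ⧸ s.range)) hz
      have h2 : (z : Δ) ∈ s.range := (QuotientGroup.eq_one_iff _).1 h1
      exact Subtype.ext (h.disj (MonoidHom.mem_ker.1 z.2) h2)
    · rintro ⟨_, z, hz, rfl⟩
      exact ⟨⟨z, hz⟩, rfl⟩
  let e : π.ker ≃* Z := MulEquiv.ofBijective f hfb
  let l : Z →* ℂˣ := (c'⁻¹).comp e.symm.toMonoidHom
  have hl : ∀ z : π.ker, l (e z) = (c'⁻¹) z := by
    intro z
    show (c'⁻¹) (e.symm (e z)) = _
    rw [e.symm_apply_apply]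
  have hTS : TSet π m s χR θ c' := by
    refine ⟨h.surj, hm, ?_, hkm.symm, h.ker_le, h.irr, hθ, h.ext, hc'⟩
    intro a b hab
    have h2 := congrArg π hab
    rw [hsec, hsec] at h2
    exact Subtype.ext h2
  refine ⟨Δ, Δ ⧸ s.range, inferInstance, inferInstance, inferInstance, π, m, Z, l,
    h.surj, hm, hZcomap, hZc, ?_, ?_⟩
  · intro hrel β hβ hov hd
    rw [over_lin_iff Z.subtype (fun z => hZc z.2) hβ] at hov
    have hcB : ∀ z : π.ker, (m.comp π.ker.subtype) z ∈ Subgroup.center (Δ ⧸ s.range) :=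
      fun z => hZc ⟨z, z.2, rfl⟩
    have h1 : Over (m.comp π.ker.subtype) β (lf c'⁻¹) := by
      rw [over_lin_iff _ hcB hβ]
      intro z
      rw [← hl]
      exact hov (e z)
    obtain ⟨χ, hχ⟩ := hTS.exists_down hβ h1
    have hdeg : charDegree (χ : Γ → ℂ) = charDegree β * charDegree θ := by
      apply Cfsg.Agent.Blocks.Basic.charDegree_of_eq
      have h1 := hχ 1
      rw [map_one, map_one] at h1
      have h2 := h.ext 1
      rw [map_one] at h2
      change χR 1 = θ 1 at h2
      rw [h1, h2, Cfsg.Agent.Blocks.Basic.irr_one_eq_charDegree hβ,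
        Cfsg.Agent.Blocks.Basic.irr_one_eq_charDegree hθ]
      push_cast; rfl
    refine hrel χ χ.2 ?_ ?_
    · letI := Fintype.ofFinite N
      rw [over_iff]
      have e : (χ : Γ → ℂ) ∘ N.subtype = β 1 • θ := by
        funext n
        change (χ : Γ → ℂ) n = β 1 * θ n
        have h1 : s n ∈ m.ker := by rw [hkm]; exact ⟨n, rfl⟩
        rw [← hsec n, hχ, h.ext, MonoidHom.mem_ker.1 h1]
      rw [e, classInner_smul_left, classInner_irr_self hθ, mul_one]
      exact isIrr_apply_one_ne_zero hβ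
    · rw [hdeg]
      rw [charDegree_lf, mul_one] at hd
      exact mul_dvd_mul_right hd _
  · intro r hr hd
    haveI := Fact.mk hr
    obtain ⟨z, hz⟩ := exists_prime_orderOf_dvd_card' r hd
    obtain ⟨x, rfl⟩ := e.surjective z
    have h1 : (x : Δ) ^ (charDegree θ * Nat.card N) = 1 := hexp x x.2
    have h2 : orderOf (e x) ∣ charDegree θ * Nat.card N := by
      rw [MulEquiv.orderOf_eq, ← Subgroup.orderOf_coe]
      exact orderOf_dvd_of_pow_eq_one h1
    rw [hz] at h2
    rcases (Nat.Prime.dvd_mul hr).1 h2 with h3 | h3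
    · exact h3.trans (Cfsg.Agent.Blocks.Knorr.charDegree_dvd hθ)
    · exact h3

end Cfsg.Agent.H37.NW
end
end

-- part: H37/NW/NumR
section
set_option linter.all false
open scoped Cfsg.Agent.FastGrp

/-!
# Navarro–Wolf: numerics in characteristic `r ≠ p`, linear case
-/

set_option autoImplicit false
set_option exponentiation.threshold 2000

namespace Cfsg.Agent.H37.NW

open Cfsg.Agent.H662.GW

/-- the order of the symplectic group -/
def P (s n : ℕ) : ℕ := s ^ (n ^ 2) * ∏ i ∈ Finset.range n, (s ^ (2 * (i + 1)) - 1)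

theorem P_pos {s : ℕ} (hs : 2 ≤ s) (n : ℕ) : 0 < P s n := by
  refine Nat.mul_pos (Nat.pow_pos (by omega)) (Finset.prod_pos fun i _ => ?_)
  exact Nat.sub_pos_of_lt (Nat.one_lt_pow (by omega) (by omega))

theorem P_succ (s m : ℕ) : P s (m + 1) ≤ P s m * s ^ (4 * m + 3) := by
  unfold P
  rw [Finset.prod_range_succ]
  calc _ ≤ s ^ ((m + 1) ^ 2) * ((∏ i ∈ Finset.range m, (s ^ (2 * (i + 1)) - 1)) * s ^ (2 * (m + 1))) :=
        Nat.mul_le_mul_left _ (Nat.mul_le_mul_left _ (Nat.sub_le _ _))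
    _ = s ^ (m ^ 2) * (∏ i ∈ Finset.range m, (s ^ (2 * (i + 1)) - 1)) * s ^ (4 * m + 3) := by
        have : s ^ ((m + 1) ^ 2) * s ^ (2 * (m + 1)) = s ^ (m ^ 2) * s ^ (4 * m + 3) := by
          rw [← pow_add, ← pow_add]; congr 1; ring
        calc _ = (s ^ ((m + 1) ^ 2) * s ^ (2 * (m + 1))) *
              ∏ i ∈ Finset.range m, (s ^ (2 * (i + 1)) - 1) := by ring
          _ = _ := by rw [this]; ring

theorem P_add (s m j : ℕ) : P s (m + j) ≤ P s m * s ^ (4 * m * j + 2 * j ^ 2 + j) := by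
  induction j with
  | zero => simp
  | succ j ih =>
    calc P s (m + j + 1) ≤ P s (m + j) * s ^ (4 * (m + j) + 3) := P_succ s (m + j)
      _ ≤ (P s m * s ^ (4 * m * j + 2 * j ^ 2 + j)) * s ^ (4 * (m + j) + 3) :=
          Nat.mul_le_mul_right _ ih
      _ = _ := by rw [mul_assoc, ← pow_add]; congr 2; ring

theorem base {p s m j q M : ℕ} (hp : 1 ≤ p) (hs : 2 ≤ s) (hq : 1 ≤ q)
    (hM : M * (p * P s m) ≤ P s (m + j)) (hI : Ineq p s (m + j) j q M) :
    ∃ e, (p - 1) * (s ^ m * (s ^ j - 1)) ≤ p * e ∧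
      p * q ^ e ≤ s ^ (4 * m * j + 2 * j ^ 2 + 3 * j) ∧ p * q ^ e ≤ s ^ (2 * j) * (p * M) := by
  obtain ⟨k, hk, hI⟩ := hI
  rw [Nat.add_sub_cancel] at hk
  have hR : s ^ m ≤ s ^ (m + j) := Nat.pow_le_pow_right (by omega) (by omega)
  obtain ⟨p, rfl⟩ : ∃ p', p = p' + 1 := ⟨p - 1, by omega⟩
  simp only [Nat.add_sub_cancel] at hk ⊢
  have hNR : s ^ m * (s ^ j - 1) = s ^ (m + j) - s ^ m := by
    rw [Nat.mul_sub, mul_one, ← pow_add]
  rw [hNR]
  generalize hN : s ^ (m + j) = N at *
  generalize s ^ m = R at *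
  have hkN : k ≤ N := by
    have h1 : (p + 1) * k ≤ (p + 1) * N := by
      calc (p + 1) * k ≤ N + p * R := hk
        _ ≤ N + p * N := by gcongr
        _ = (p + 1) * N := by ring
    exact Nat.le_of_mul_le_mul_left h1 (by omega)
  obtain ⟨e, he⟩ : ∃ e, N = k + e := ⟨N - k, by omega⟩
  have hqk : 0 < q ^ k := Nat.pow_pos hq
  have h3 : q ^ e ≤ s ^ (2 * j) * M := by
    rw [he, pow_add] at hI
    refine Nat.le_of_mul_le_mul_left ?_ hqk
    rw [← mul_assoc]; exact hI
  have hpM : (p + 1) * M ≤ s ^ (4 * m * j + 2 * j ^ 2 + j) := by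
    refine Nat.le_of_mul_le_mul_left ?_ (P_pos hs m)
    calc P s m * ((p + 1) * M) = M * ((p + 1) * P s m) := by ring
      _ ≤ P s (m + j) := hM
      _ ≤ _ := P_add s m j
  have h5 : (p + 1) * q ^ e ≤ s ^ (2 * j) * ((p + 1) * M) := by
    calc (p + 1) * q ^ e ≤ (p + 1) * (s ^ (2 * j) * M) := Nat.mul_le_mul_left _ h3
      _ = _ := by ring
  refine ⟨e, ?_, ?_, h5⟩
  · obtain ⟨d, hd⟩ : ∃ d, N = R + d := ⟨N - R, by omega⟩
    have h5 : N - R = d := by omega
    rw [h5]
    have h6 : (p + 1) * k + (p + 1) * e = (p + 1) * N := by rw [he]; ring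
    have h7 : (p + 1) * N = N + p * R + p * d := by rw [hd]; ring
    omega
  · calc (p + 1) * q ^ e ≤ s ^ (2 * j) * ((p + 1) * M) := h5
      _ ≤ s ^ (2 * j) * s ^ (4 * m * j + 2 * j ^ 2 + j) := Nat.mul_le_mul_left _ hpM
      _ = _ := by rw [← pow_add]; congr 1; ring

theorem E_le (m j : ℕ) : 4 * m * j + 2 * j ^ 2 + 3 * j ≤ 2 * (m + j) ^ 2 + 3 * (m + j) := by
  linarith only [_root_.mul_self_nonneg (↑m : ℤ), _root_.Nat.cast_nonneg (α := ℤ) (m)]

/-- `q ^ e ≤ 2 ^ F` is impossible if `a e ≥ b 2 ^ n`, `F ≤ 2 n ^ 2 + 3 n` -/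
theorem big {q e F n : ℕ} (q₀ a b u v n₀ c : ℕ) (hq : q₀ ≤ q) (h : q ^ e ≤ 2 ^ F)
    (he : b * 2 ^ n ≤ a * e) (h2 : F ≤ c * 2 ^ (n - n₀)) (hn : n₀ ≤ n) (hb : 1 ≤ b)
    (huv : 2 ^ u < q₀ ^ v) (hkey : c * a * v ≤ u * b * 2 ^ n₀) : False := by
  have h3 : (q₀ ^ v) ^ (a * e) ≤ (2 ^ u) ^ (a * e) := by
    calc (q₀ ^ v) ^ (a * e) ≤ (q ^ v) ^ (a * e) := Nat.pow_le_pow_left (Nat.pow_le_pow_left hq _) _
      _ = (q ^ e) ^ (a * v) := by rw [← pow_mul, ← pow_mul]; congr 1; ring
      _ ≤ (2 ^ F) ^ (a * v) := Nat.pow_le_pow_left h _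
      _ = 2 ^ (F * (a * v)) := by rw [← pow_mul]
      _ ≤ 2 ^ (u * (a * e)) := by
          refine Nat.pow_le_pow_right (by norm_num) ?_
          have h4 : 2 ^ n = 2 ^ n₀ * 2 ^ (n - n₀) := by rw [← pow_add]; congr 1; omega
          calc F * (a * v) ≤ c * 2 ^ (n - n₀) * (a * v) := Nat.mul_le_mul_right _ h2
            _ = c * a * v * 2 ^ (n - n₀) := by ring
            _ ≤ u * b * 2 ^ n₀ * 2 ^ (n - n₀) := Nat.mul_le_mul_right _ hkey
            _ = u * (b * 2 ^ n) := by rw [h4]; ring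
            _ ≤ u * (a * e) := Nat.mul_le_mul_left _ he
      _ = (2 ^ u) ^ (a * e) := by rw [pow_mul]
  have h4 : a * e ≠ 0 := by
    have h6 : 0 < b * 2 ^ n := Nat.mul_pos hb (by positivity)
    omega
  exact absurd h3 (not_le_of_gt (Nat.pow_lt_pow_left huv h4))

theorem lin {F n : ℕ} (n₀ c : ℕ) (hF : F ≤ 2 * n ^ 2 + 3 * n) (hn : n₀ ≤ n) (hn₀ : 2 ≤ n₀)
    (h0 : 2 * n₀ ^ 2 + 3 * n₀ ≤ c) : F ≤ c * 2 ^ (n - n₀) :=
  hF.trans (Cfsg.Agent.H397.GW.lin_pow (b := c) (c := c) n₀ le_rfl h0 hn₀ hn)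

/-- explicit contradiction -/
theorem small {p q e A F : ℕ} (q₀ e₀ : ℕ) (hq : q₀ ≤ q) (hq₀ : 1 ≤ q₀) (he : p * (e₀ - 1) < A)
    (hA : A ≤ p * e) (he₀ : 1 ≤ e₀) (h : p * q ^ e ≤ F) (hF : F < p * q₀ ^ e₀) : False := by
  have h1 : e₀ ≤ e := by
    by_contra hlt
    have : e ≤ e₀ - 1 := by omega
    have := Nat.mul_le_mul_left p this
    omega
  have h2 : p * q₀ ^ e₀ ≤ p * q ^ e :=
    Nat.mul_le_mul_left _ ((Nat.pow_le_pow_left hq _).trans (Nat.pow_le_pow_right (by omega) h1))
  omega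

section two

variable {p q e m j M : ℕ}

theorem two_ge {i : ℕ} (hij : i ≤ j) : (2 ^ i - 1) * 2 ^ (m + j - i) ≤ 2 ^ m * (2 ^ j - 1) := by
  have h1 : 2 ^ m * (2 ^ j - 1) = 2 ^ (m + j) - 2 ^ m := by
    rw [Nat.mul_sub, mul_one, ← pow_add]
  have h2 : (2 ^ i - 1) * 2 ^ (m + j - i) = 2 ^ (m + j) - 2 ^ (m + j - i) := by
    rw [Nat.sub_mul, one_mul, ← pow_add]; congr 2; omega
  rw [h1, h2]
  exact Nat.sub_le_sub_left (Nat.pow_le_pow_right (by norm_num) (by omega)) _

theorem two_three (hj : 1 ≤ j) (hq : 5 ≤ q) (h1 : (3 - 1) * (2 ^ m * (2 ^ j - 1)) ≤ 3 * e)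
    (h2 : 3 * q ^ e ≤ 2 ^ (4 * m * j + 2 * j ^ 2 + 3 * j)) : m + j ≤ 5 := by
  by_contra hn
  rcases Nat.lt_or_ge (m + j) 8 with h8 | h8
  · have hcase : m + j = 6 ∨ m + j = 7 := by omega
    rcases hcase with h | h
    · have hj5 : j ≤ 6 := by omega
      obtain rfl : m = 6 - j := by omega
      interval_cases j
      · exact small 5 22 hq (by norm_num) (by norm_num) h1 (by norm_num) h2 (by norm_num)
      · exact small 5 32 hq (by norm_num) (by norm_num) h1 (by norm_num) h2 (by norm_num)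
      · exact small 5 38 hq (by norm_num) (by norm_num) h1 (by norm_num) h2 (by norm_num)
      · exact small 5 40 hq (by norm_num) (by norm_num) h1 (by norm_num) h2 (by norm_num)
      · exact small 5 42 hq (by norm_num) (by norm_num) h1 (by norm_num) h2 (by norm_num)
      · exact small 5 42 hq (by norm_num) (by norm_num) h1 (by norm_num) h2 (by norm_num)
    · have hj5 : j ≤ 7 := by omega
      obtain rfl : m = 7 - j := by omega
      interval_cases j
      · exact small 5 43 hq (by norm_num) (by norm_num) h1 (by norm_num) h2 (by norm_num)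
      · exact small 5 64 hq (by norm_num) (by norm_num) h1 (by norm_num) h2 (by norm_num)
      · exact small 5 75 hq (by norm_num) (by norm_num) h1 (by norm_num) h2 (by norm_num)
      · exact small 5 80 hq (by norm_num) (by norm_num) h1 (by norm_num) h2 (by norm_num)
      · exact small 5 83 hq (by norm_num) (by norm_num) h1 (by norm_num) h2 (by norm_num)
      · exact small 5 84 hq (by norm_num) (by norm_num) h1 (by norm_num) h2 (by norm_num)
      · exact small 5 85 hq (by norm_num) (by norm_num) h1 (by norm_num) h2 (by norm_num)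
  · have h3 : q ^ e ≤ 2 ^ (4 * m * j + 2 * j ^ 2 + 3 * j) := le_trans (by omega) h2
    have h4 := two_ge (m := m) (i := 1) hj
    have h5 : 2 ^ (m + j) = 2 * 2 ^ (m + j - 1) := by rw [← pow_succ']; congr 1; omega
    refine big 5 3 1 2 1 8 152 hq h3 (n := m + j) ?_
      (lin 8 152 (E_le m j) h8 (by norm_num) (by norm_num)) h8 (by norm_num) (by norm_num) (by norm_num)
    omega

/-- `p = 5`, `q ≥ 3`, solvable -/
theorem two_five_sol (hj : 2 ≤ j) (hq : 3 ≤ q) (h1 : (5 - 1) * (2 ^ m * (2 ^ j - 1)) ≤ 5 * e)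
    (h2 : 5 * q ^ e ≤ 2 ^ (2 * j) * 2 ^ (6 * (m + j))) : m + j ≤ 4 := by
  by_contra hn
  rw [← pow_add] at h2
  rcases Nat.lt_or_ge (m + j) 6 with h8 | h8
  · have h : m + j = 5 := by omega
    have hj5 : j ≤ 5 := by omega
    obtain rfl : m = 5 - j := by omega
    interval_cases j
    · exact small 3 20 hq (by norm_num) (by norm_num) h1 (by norm_num) h2 (by norm_num)
    · exact small 3 23 hq (by norm_num) (by norm_num) h1 (by norm_num) h2 (by norm_num)
    · exact small 3 24 hq (by norm_num) (by norm_num) h1 (by norm_num) h2 (by norm_num)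
    · exact small 3 25 hq (by norm_num) (by norm_num) h1 (by norm_num) h2 (by norm_num)
  · have h3 : q ^ e ≤ 2 ^ (8 * (m + j)) :=
      le_trans (by omega) (h2.trans (Nat.pow_le_pow_right (by norm_num) (by omega)))
    have h4 := two_ge (m := m) (i := 2) hj
    have h5 : 2 ^ (m + j) = 4 * 2 ^ (m + j - 2) := by
      rw [show (4 : ℕ) = 2 ^ 2 by norm_num, ← pow_add]; congr 1; omega
    refine big 3 5 3 3 2 6 48 hq h3 (n := m + j) ?_ ?_ h8 (by norm_num) (by norm_num) (by norm_num)
    · omega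
    · have h6 : m + j - 6 < 2 ^ (m + j - 6) := Nat.lt_pow_self (by norm_num)
      omega

theorem two_five (hj : 2 ≤ j) (hq : 7 ≤ q) (h1 : (5 - 1) * (2 ^ m * (2 ^ j - 1)) ≤ 5 * e)
    (h2 : 5 * q ^ e ≤ 2 ^ (4 * m * j + 2 * j ^ 2 + 3 * j)) : m + j ≤ 4 := by
  by_contra hn
  rcases Nat.lt_or_ge (m + j) 6 with h8 | h8
  · have h : m + j = 5 := by omega
    have hj5 : j ≤ 5 := by omega
    obtain rfl : m = 5 - j := by omega
    interval_cases j
    · exact small 7 20 hq (by norm_num) (by norm_num) h1 (by norm_num) h2 (by norm_num)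
    · exact small 7 23 hq (by norm_num) (by norm_num) h1 (by norm_num) h2 (by norm_num)
    · exact small 7 24 hq (by norm_num) (by norm_num) h1 (by norm_num) h2 (by norm_num)
    · exact small 7 25 hq (by norm_num) (by norm_num) h1 (by norm_num) h2 (by norm_num)
  · have h3 : q ^ e ≤ 2 ^ (4 * m * j + 2 * j ^ 2 + 3 * j) := le_trans (by omega) h2
    have h4 := two_ge (m := m) (i := 2) hj
    have h5 : 2 ^ (m + j) = 4 * 2 ^ (m + j - 2) := by
      rw [show (4 : ℕ) = 2 ^ 2 by norm_num, ← pow_add]; congr 1; omega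
    refine big 7 5 3 14 5 6 90 hq h3 (n := m + j) ?_
      (lin 6 90 (E_le m j) h8 (by norm_num) (by norm_num)) h8 (by norm_num) (by norm_num) (by norm_num)
    omega

theorem two_seven_sol (hj : 3 ≤ j) (hq : 3 ≤ q) (h1 : (7 - 1) * (2 ^ m * (2 ^ j - 1)) ≤ 7 * e)
    (h2 : 7 * q ^ e ≤ 2 ^ (4 * m * j + 2 * j ^ 2 + 3 * j))
    (h2' : m + j ≤ 6 → 7 * q ^ e ≤ 2 ^ (2 * j) * 2 ^ (6 * (m + j))) : m + j ≤ 4 := by
  by_contra hn
  rcases Nat.lt_or_ge (m + j) 7 with h8 | h8
  · have h2 := h2' (by omega)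
    rw [← pow_add] at h2
    have h : m + j = 5 ∨ m + j = 6 := by omega
    rcases h with h | h
    · have hj5 : j ≤ 5 := by omega
      obtain rfl : m = 5 - j := by omega
      interval_cases j
      · exact small 3 24 hq (by norm_num) (by norm_num) h1 (by norm_num) h2 (by norm_num)
      · exact small 3 26 hq (by norm_num) (by norm_num) h1 (by norm_num) h2 (by norm_num)
      · exact small 3 27 hq (by norm_num) (by norm_num) h1 (by norm_num) h2 (by norm_num)
    · have hj5 : j ≤ 6 := by omega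
      obtain rfl : m = 6 - j := by omega
      interval_cases j
      · exact small 3 48 hq (by norm_num) (by norm_num) h1 (by norm_num) h2 (by norm_num)
      · exact small 3 52 hq (by norm_num) (by norm_num) h1 (by norm_num) h2 (by norm_num)
      · exact small 3 54 hq (by norm_num) (by norm_num) h1 (by norm_num) h2 (by norm_num)
      · exact small 3 54 hq (by norm_num) (by norm_num) h1 (by norm_num) h2 (by norm_num)
  · have h3 : q ^ e ≤ 2 ^ (4 * m * j + 2 * j ^ 2 + 3 * j) := le_trans (by omega) h2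
    have h4 := two_ge (m := m) (i := 3) hj
    have h5 : 2 ^ (m + j) = 8 * 2 ^ (m + j - 3) := by
      rw [show (8 : ℕ) = 2 ^ 3 by norm_num, ← pow_add]; congr 1; omega
    refine big 3 4 3 3 2 7 119 hq h3 (n := m + j) ?_
      (lin 7 119 (E_le m j) h8 (by norm_num) (by norm_num)) h8 (by norm_num) (by norm_num) (by norm_num)
    omega

theorem two_seven (hj : 3 ≤ j) (hq : 5 ≤ q) (h1 : (7 - 1) * (2 ^ m * (2 ^ j - 1)) ≤ 7 * e)
    (h2 : 7 * q ^ e ≤ 2 ^ (4 * m * j + 2 * j ^ 2 + 3 * j)) : m + j ≤ 4 := by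
  by_contra hn
  rcases Nat.lt_or_ge (m + j) 6 with h8 | h8
  · have h : m + j = 5 := by omega
    have hj5 : j ≤ 5 := by omega
    obtain rfl : m = 5 - j := by omega
    interval_cases j
    · exact small 5 24 hq (by norm_num) (by norm_num) h1 (by norm_num) h2 (by norm_num)
    · exact small 5 26 hq (by norm_num) (by norm_num) h1 (by norm_num) h2 (by norm_num)
    · exact small 5 27 hq (by norm_num) (by norm_num) h1 (by norm_num) h2 (by norm_num)
  · have h3 : q ^ e ≤ 2 ^ (4 * m * j + 2 * j ^ 2 + 3 * j) := le_trans (by omega) h2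
    have h4 := two_ge (m := m) (i := 3) hj
    have h5 : 2 ^ (m + j) = 8 * 2 ^ (m + j - 3) := by
      rw [show (8 : ℕ) = 2 ^ 3 by norm_num, ← pow_add]; congr 1; omega
    refine big 5 4 3 9 4 6 90 hq h3 (n := m + j) ?_
      (lin 6 90 (E_le m j) h8 (by norm_num) (by norm_num)) h8 (by norm_num) (by norm_num) (by norm_num)
    omega

/-- `p ≥ 11` -/
theorem two_eleven {i : ℕ} (hp : p.Prime) (hp11 : 11 ≤ p) (hij : i ≤ j) (hd : p ∣ 2 ^ (2 * i) - 1)
    (hi : 1 ≤ i) (hq : 3 ≤ q)
    (h1 : (p - 1) * (2 ^ m * (2 ^ j - 1)) ≤ p * e)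
    (h2 : p * q ^ e ≤ 2 ^ (4 * m * j + 2 * j ^ 2 + 3 * j))
    (h2' : m + j ≤ 5 → 5 ≤ q ∨ p * q ^ e ≤ 2 ^ (2 * j) * 2 ^ (6 * (m + j))) :
    p = 17 ∧ m + j = 4 ∧ j = 4 := by
  have hi4 : 4 ≤ i := by
    by_contra hi4
    have : p ∣ 3 * 5 * 3 * 3 * 7 := by
      interval_cases i
      · exact hd.trans (by norm_num)
      · exact hd.trans (by norm_num)
      · exact hd.trans (by norm_num)
    rcases (Nat.Prime.dvd_mul hp).mp this with h | h
    · rcases (Nat.Prime.dvd_mul hp).mp h with h | h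
      · rcases (Nat.Prime.dvd_mul hp).mp h with h | h
        · rcases (Nat.Prime.dvd_mul hp).mp h with h | h
          · have := Nat.le_of_dvd (by norm_num) h; omega
          · have := Nat.le_of_dvd (by norm_num) h; omega
        · have := Nat.le_of_dvd (by norm_num) h; omega
      · have := Nat.le_of_dvd (by norm_num) h; omega
    · have := Nat.le_of_dvd (by norm_num) h; omega
  have h17 : i = 4 → p = 17 := by
    rintro rfl
    have : p ∣ 3 * 5 * 17 := by simpa using hd
    rcases (Nat.Prime.dvd_mul hp).mp this with h | h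
    · rcases (Nat.Prime.dvd_mul hp).mp h with h | h
      · have := Nat.le_of_dvd (by norm_num) h; omega
      · have := Nat.le_of_dvd (by norm_num) h; omega
    · exact (Nat.prime_dvd_prime_iff_eq hp (by norm_num)).1 h
  have hqe : q ^ e ≤ p * q ^ e := Nat.le_mul_of_pos_left _ (by omega)
  -- `e ≥ e₀`
  have cmp : ∀ (e₀ q₀ F : ℕ), q₀ ≤ q → 1 ≤ q₀ → e₀ ≤ e → q ^ e ≤ F → F < q₀ ^ e₀ → False := by
    intro e₀ q₀ F hq hq₀ he h3 h4
    have h5 : q₀ ^ e₀ ≤ q ^ e := (Nat.pow_le_pow_left hq _).trans (Nat.pow_le_pow_right (by omega) he)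
    omega
  rcases Nat.lt_or_ge (m + j) 7 with h8 | h8
  · have h : m + j = 4 ∨ m + j = 5 ∨ m + j = 6 := by omega
    rcases h with h | h | h
    · have hj : j = 4 := by omega
      exact ⟨h17 (by omega), h, hj⟩
    · exfalso
      have hj5 : j ≤ 5 := by omega
      obtain rfl : m = 5 - j := by omega
      have hj : j = 4 ∨ j = 5 := by omega
      rcases hj with rfl | rfl
      · obtain rfl : p = 17 := h17 (by omega)
        norm_num only [_root_.forall_const] at h1 h2 h2'
        rcases h2' with h3 | h3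
        · exact cmp 29 5 _ h3 (by norm_num) (by omega) (hqe.trans h2) (by norm_num)
        · exact cmp 29 3 _ hq (by norm_num) (by omega) (hqe.trans h3) (by norm_num)
      · norm_num only [_root_.forall_const] at h1 h2 h2'
        have he : 29 ≤ e := by
          by_contra hlt
          have : p * e ≤ p * 28 := Nat.mul_le_mul_left _ (by omega)
          omega
        rcases h2' with h3 | h3
        · exact cmp 29 5 _ h3 (by norm_num) he (hqe.trans h2) (by norm_num)
        · exact cmp 29 3 _ hq (by norm_num) he (hqe.trans h3) (by norm_num)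
    · exfalso
      have hj5 : j ≤ 6 := by omega
      obtain rfl : m = 6 - j := by omega
      have hj : j = 4 ∨ j = 5 ∨ j = 6 := by omega
      rcases hj with rfl | rfl | rfl
      · norm_num only [] at h1 h2
        have he : 55 ≤ e := by
          by_contra hlt
          have : p * e ≤ p * 54 := Nat.mul_le_mul_left _ (by omega)
          omega
        exact cmp 55 3 _ hq (by norm_num) he (hqe.trans h2) (by norm_num)
      · norm_num only [] at h1 h2
        have he : 57 ≤ e := by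
          by_contra hlt
          have : p * e ≤ p * 56 := Nat.mul_le_mul_left _ (by omega)
          omega
        exact cmp 57 3 _ hq (by norm_num) he (hqe.trans h2) (by norm_num)
      · norm_num only [] at h1 h2
        have he : 58 ≤ e := by
          by_contra hlt
          have : p * e ≤ p * 57 := Nat.mul_le_mul_left _ (by omega)
          omega
        exact cmp 58 3 _ hq (by norm_num) he (hqe.trans h2) (by norm_num)
  · exfalso
    have h4 := two_ge (m := m) (i := 4) (show 4 ≤ j by omega)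
    have h5 : 2 ^ (m + j) = 16 * 2 ^ (m + j - 4) := by
      rw [show (16 : ℕ) = 2 ^ 4 by norm_num, ← pow_add]; congr 1; omega
    refine big 3 176 150 3 2 7 119 hq (hqe.trans h2) (n := m + j) ?_
      (lin 7 119 (E_le m j) h8 (by norm_num) (by norm_num)) h8 (by norm_num) (by norm_num)
      (by norm_num)
    rw [h5]
    generalize 2 ^ (m + j - 4) = T at *
    generalize 2 ^ m * (2 ^ j - 1) = S at *
    have h6 : p * (150 * T) ≤ p * (11 * e) := by
      calc p * (150 * T) = 10 * p * (15 * T) := by ring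
        _ ≤ 11 * (p - 1) * (15 * T) := Nat.mul_le_mul_right _ (by omega)
        _ ≤ 11 * (p - 1) * S := Nat.mul_le_mul_left _ (by omega)
        _ = 11 * ((p - 1) * S) := by ring
        _ ≤ 11 * (p * e) := Nat.mul_le_mul_left _ h1
        _ = p * (11 * e) := by ring
    have h7 := Nat.le_of_mul_le_mul_left h6 (by omega)
    omega

end two

section odd

variable {p q e m j s : ℕ}

theorem s_ge {i : ℕ} (hs : 1 ≤ s) (hij : i ≤ j) :
    (s ^ i - 1) * s ^ (m + j - i) ≤ s ^ m * (s ^ j - 1) := by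
  have h1 : s ^ m * (s ^ j - 1) = s ^ (m + j) - s ^ m := by
    rw [Nat.mul_sub, mul_one, ← pow_add]
  have h2 : (s ^ i - 1) * s ^ (m + j - i) = s ^ (m + j) - s ^ (m + j - i) := by
    rw [Nat.sub_mul, one_mul, ← pow_add]; congr 2; omega
  rw [h1, h2]
  exact Nat.sub_le_sub_left (Nat.pow_le_pow_right hs (by omega)) _

theorem cmp_s {F : ℕ} (hs : 1 < s) (hq : s < q) (he : F ≤ e) (he0 : 1 ≤ e) (h : q ^ e ≤ s ^ F) :
    False := by
  have h1 : s ^ F ≤ s ^ e := Nat.pow_le_pow_right (by omega) he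
  have h2 : s ^ e < q ^ e := Nat.pow_lt_pow_left hq (by omega)
  omega

theorem s_three {i : ℕ} (hp : p.Prime) (hp5 : 5 ≤ p) (hij : i ≤ j) (hd : p ∣ 3 ^ (2 * i) - 1)
    (hi : 1 ≤ i) (hq : 4 ≤ q) (h1 : (p - 1) * (3 ^ m * (3 ^ j - 1)) ≤ p * e)
    (h2 : p * q ^ e ≤ 3 ^ (4 * m * j + 2 * j ^ 2 + 3 * j)) :
    p = 5 ∧ m + j = 2 ∧ j = 2 := by
  have hi2 : 2 ≤ i := by
    by_contra hi2
    obtain rfl : i = 1 := by omega
    have h8 : p ∣ 2 ^ 3 := by simpa using hd
    have := Nat.le_of_dvd (by norm_num) (hp.dvd_of_dvd_pow h8)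
    omega
  have hqe : q ^ e ≤ p * q ^ e := Nat.le_mul_of_pos_left _ (by omega)
  rcases Nat.lt_or_ge (m + j) 4 with h8 | h8
  · have h : m + j = 2 ∨ m + j = 3 := by omega
    rcases h with h | h
    · have hj : j = 2 := by omega
      refine ⟨?_, h, hj⟩
      obtain rfl : i = 2 := by omega
      have h80 : p ∣ 2 ^ 4 * 5 := by simpa using hd
      rcases (Nat.Prime.dvd_mul hp).mp h80 with h | h
      · have := Nat.le_of_dvd (by norm_num) (hp.dvd_of_dvd_pow h)
        omega
      · have := Nat.le_of_dvd (by norm_num) h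
        omega
    · exfalso
      have hj5 : j ≤ 3 := by omega
      obtain rfl : m = 3 - j := by omega
      have hj : j = 2 ∨ j = 3 := by omega
      rcases hj with rfl | rfl
      · norm_num only [] at h1 h2
        have he : 20 ≤ e := by
          by_contra hlt
          have : p * e ≤ p * 19 := Nat.mul_le_mul_left _ (by omega)
          omega
        have h5 : 4 ^ 20 ≤ q ^ e := (Nat.pow_le_pow_left hq _).trans
          (Nat.pow_le_pow_right (by omega) he)
        norm_num at h5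
        omega
      · norm_num only [] at h1 h2
        have he : 21 ≤ e := by
          by_contra hlt
          have : p * e ≤ p * 20 := Nat.mul_le_mul_left _ (by omega)
          omega
        have h5 : 4 ^ 21 ≤ q ^ e := (Nat.pow_le_pow_left hq _).trans
          (Nat.pow_le_pow_right (by omega) he)
        have h6 : 5 * 4 ^ 21 ≤ p * q ^ e := Nat.mul_le_mul hp5 h5
        norm_num at h6
        omega
  · exfalso
    have h4 := s_ge (s := 3) (m := m) (i := 2) (by norm_num) (show 2 ≤ j by omega)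
    have h5 : 3 ^ (m + j - 2) = 9 * 3 ^ (m + j - 4) := by
      rw [show (9 : ℕ) = 3 ^ 2 by norm_num, ← pow_add]; congr 1; omega
    have h6 : 2 ^ (m + j - 4) ≤ 3 ^ (m + j - 4) := Nat.pow_le_pow_left (by norm_num) _
    have h7 := lin 4 44 (E_le m j) h8 (by norm_num) (by norm_num)
    rw [h5] at h4
    norm_num only [] at h4
    have h9 : 1 ≤ 3 ^ (m + j - 4) := Nat.one_le_pow _ _ (by norm_num)
    generalize 3 ^ (m + j - 4) = T at *
    generalize 3 ^ m * (3 ^ j - 1) = S at *
    have h10 : p * (4 * S) ≤ p * (5 * e) := by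
      calc p * (4 * S) = 4 * p * S := by ring
        _ ≤ 5 * (p - 1) * S := Nat.mul_le_mul_right _ (by omega)
        _ = 5 * ((p - 1) * S) := by ring
        _ ≤ 5 * (p * e) := Nat.mul_le_mul_left _ h1
        _ = p * (5 * e) := by ring
    have h11 := Nat.le_of_mul_le_mul_left h10 (by omega)
    refine cmp_s (s := 3) (by norm_num) hq ?_ ?_ (hqe.trans h2)
    · refine h7.trans ?_
      have : 44 * 2 ^ (m + j - 4) ≤ 44 * T := Nat.mul_le_mul_left _ h6
      omega
    · omega

theorem s_five {i r f : ℕ} (hp : p.Prime) (hp3 : 3 ≤ p) (hs : s.Prime) (hs5 : 5 ≤ s)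
    (hr : r.Prime) (hij : i ≤ j)
    (hd : p ∣ s ^ (2 * i) - 1) (hi : 1 ≤ i) (hqf : r ^ f = q) (hq : s < q) (hsq : s ∣ q - 1)
    (h1 : (p - 1) * (s ^ m * (s ^ j - 1)) ≤ p * e)
    (h2 : p * q ^ e ≤ s ^ (4 * m * j + 2 * j ^ 2 + 3 * j)) :
    s = 7 ∧ p = 3 ∧ m + j = 1 ∧ j = 1 ∧ r = 2 ∧ f = 3 := by
  have hqe : q ^ e ≤ p * q ^ e := Nat.le_mul_of_pos_left _ (by omega)
  have h11 : 2 * (s ^ m * (s ^ j - 1)) ≤ 3 * e := by
    generalize s ^ m * (s ^ j - 1) = S at *
    have h10 : p * (2 * S) ≤ p * (3 * e) := by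
      calc p * (2 * S) = 2 * p * S := by ring
        _ ≤ 3 * (p - 1) * S := Nat.mul_le_mul_right _ (by omega)
        _ = 3 * ((p - 1) * S) := by ring
        _ ≤ 3 * (p * e) := Nat.mul_le_mul_left _ h1
        _ = p * (3 * e) := by ring
    exact Nat.le_of_mul_le_mul_left h10 (by omega)
  rcases Nat.lt_or_ge (m + j) 2 with h8 | h8
  · obtain rfl : m = 0 := by omega
    obtain rfl : j = 1 := by omega
    obtain rfl : i = 1 := by omega
    norm_num only [_root_.pow_zero, _root_.pow_one, _root_.one_mul] at h11 h2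
    rcases Nat.lt_or_ge s 9 with hs9 | hs9
    · have : s = 5 ∨ s = 7 := by
        interval_cases s <;> first | omega | (exfalso; revert hs; norm_num)
      rcases this with rfl | rfl
      · exfalso
        have h3 : p = 3 := by
          have h24 : p ∣ 2 ^ 3 * 3 := by simpa using hd
          rcases (Nat.Prime.dvd_mul hp).mp h24 with h | h
          · have := Nat.le_of_dvd (by norm_num) (hp.dvd_of_dvd_pow h)
            omega
          · have := Nat.le_of_dvd (by norm_num) h
            omega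
        subst h3
        have he : 3 ≤ e := by omega
        have hq10 : q ≤ 10 := by
          by_contra hlt
          have h5 : 11 ^ 3 ≤ q ^ e := (Nat.pow_le_pow_left (by omega) _).trans
            (Nat.pow_le_pow_right (by omega) he)
          norm_num at h2 h5
          omega
        have hq6 : q = 6 := by
          obtain ⟨c, hc⟩ := hsq
          omega
        rw [hq6] at hqf
        have h6 : 2 ∣ r ^ f := by rw [hqf]; norm_num
        have h7 : 3 ∣ r ^ f := by rw [hqf]; norm_num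
        have h8 := (Nat.prime_dvd_prime_iff_eq Nat.prime_two hr).1 (Nat.prime_two.dvd_of_dvd_pow h6)
        have h9 := (Nat.prime_dvd_prime_iff_eq Nat.prime_three hr).1
          (Nat.prime_three.dvd_of_dvd_pow h7)
        omega
      · have h3 : p = 3 := by
          have h24 : p ∣ 2 ^ 4 * 3 := by simpa using hd
          rcases (Nat.Prime.dvd_mul hp).mp h24 with h | h
          · have := Nat.le_of_dvd (by norm_num) (hp.dvd_of_dvd_pow h)
            omega
          · have := Nat.le_of_dvd (by norm_num) h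
            omega
        subst h3
        have he : 4 ≤ e := by omega
        have hq8 : q ≤ 8 := by
          by_contra hlt
          have h5 : 9 ^ 4 ≤ q ^ e := (Nat.pow_le_pow_left (by omega) _).trans
            (Nat.pow_le_pow_right (by omega) he)
          norm_num at h2 h5
          omega
        have hq6 : q = 8 := by
          obtain ⟨c, hc⟩ := hsq
          omega
        rw [hq6] at hqf
        have h6 : 2 ∣ r ^ f := by rw [hqf]; norm_num
        have h8 := (Nat.prime_dvd_prime_iff_eq Nat.prime_two hr).1 (Nat.prime_two.dvd_of_dvd_pow h6)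
        subst h8
        refine ⟨rfl, rfl, rfl, rfl, rfl, ?_⟩
        exact Nat.pow_right_injective le_rfl (show 2 ^ f = 2 ^ 3 by rw [hqf])
    · exfalso
      exact cmp_s (by omega) hq (show 5 ≤ e by omega) (by omega) (hqe.trans h2)
  · exfalso
    have h4 := s_ge (s := s) (m := m) (i := 1) (by omega) (show 1 ≤ j by omega)
    rw [pow_one] at h4
    have h5 : s ^ (m + j - 1) = s * s ^ (m + j - 2) := by
      rw [← pow_succ']; congr 1; omega
    have h6 : 5 ^ (m + j - 2) ≤ s ^ (m + j - 2) := Nat.pow_le_pow_left hs5 _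
    have h7 := lin 2 14 (E_le m j) h8 (by norm_num) (by norm_num)
    have h9 : 4 * (5 * 5 ^ (m + j - 2)) ≤ s ^ m * (s ^ j - 1) := by
      refine le_trans ?_ h4
      rw [h5]
      exact Nat.mul_le_mul (by omega) (Nat.mul_le_mul hs5 h6)
    have h10 : 42 * 2 ^ (m + j - 2) ≤ 40 * 5 ^ (m + j - 2) + 2 := by
      generalize m + j - 2 = k
      induction k with
      | zero => norm_num
      | succ k ih =>
        rw [pow_succ, pow_succ]
        have : 1 ≤ 5 ^ k := Nat.one_le_pow _ _ (by norm_num)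
        (clear * - ih; omega)
    refine cmp_s (by omega) hq ?_ ?_ (hqe.trans h2)
    · refine h7.trans ?_
      omega
    · have : 1 ≤ 5 ^ (m + j - 2) := Nat.one_le_pow _ _ (by norm_num)
      omega

end odd

/-- [R1] -/
theorem num_r {p s n j r f M : ℕ} (hp : p.Prime) (hs : s.Prime) (hr : r.Prime) (hps : p ≠ s)
    (hpr : r ≠ p) (hp2 : p ≠ 2)
    (hj : 1 ≤ j) (hjn : j ≤ n) (hd : ∃ i, 1 ≤ i ∧ i ≤ j ∧ p ∣ s ^ (2 * i) - 1) (hf : 1 ≤ f)
    (hsq : s ∣ r ^ f - 1)
    (hM : M * (p * (s ^ ((n - j) ^ 2) * ∏ i ∈ Finset.range (n - j), (s ^ (2 * (i + 1)) - 1)))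
      ≤ s ^ (n ^ 2) * ∏ i ∈ Finset.range n, (s ^ (2 * (i + 1)) - 1))
    (hsol : r = 3 → s = 2 → (p = 5 ∨ n ≤ 5 ∨ (p = 7 ∧ n = 6)) → p * M ≤ 2 ^ (6 * n))
    (hI : Ineq p s n j (r ^ f) M) :
    (s = 2 ∧ ((p = 3 ∧ n ≤ 5) ∨ (p = 5 ∧ n ≤ 4) ∨ (p = 7 ∧ n ≤ 4) ∨ (p = 17 ∧ n = 4 ∧ j = 4))) ∨
      (s = 3 ∧ p = 5 ∧ n = 2 ∧ j = 2) ∨ (s = 7 ∧ p = 3 ∧ n = 1 ∧ j = 1 ∧ r = 2 ∧ f = 3) := by
  obtain ⟨m, rfl⟩ : ∃ m, n = m + j := ⟨n - j, by omega⟩
  rw [Nat.add_sub_cancel] at hM
  obtain ⟨i, hi, hij, hd⟩ := hd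
  have hp1 := hp.two_le
  have hs1 := hs.two_le
  have hr1 := hr.two_le
  have hrf : r ≤ r ^ f := Nat.le_self_pow (by omega) r
  obtain ⟨e, h1, h2, h3⟩ := base (by omega) hs1 (by omega) hM hI
  rcases Nat.lt_or_ge s 5 with hs5 | hs5
  · have : s = 2 ∨ s = 3 := by
      interval_cases s <;> first | omega | (exfalso; revert hs; norm_num)
    rcases this with rfl | rfl
    · left
      refine ⟨rfl, ?_⟩
      have hr2 : r ≠ 2 := by
        rintro rfl
        have h4 : 2 ∣ 2 ^ f := dvd_pow_self 2 (by omega)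
        have h5 : 1 ≤ 2 ^ f := Nat.one_le_pow _ _ (by norm_num)
        (clear * - hrf hsq h4; omega)
      have hr4 : r ≠ 4 := fun h => by rw [h] at hr; revert hr; norm_num
      have hr6 : r ≠ 6 := fun h => by rw [h] at hr; revert hr; norm_num
      have hj2 : p ≠ 3 → 2 ≤ j := by
        intro h3
        by_contra hj2
        obtain rfl : i = 1 := by omega
        have : p ∣ 3 := by simpa using hd
        exact h3 ((Nat.prime_dvd_prime_iff_eq hp Nat.prime_three).1 this)
      rcases Nat.lt_or_ge p 11 with h11 | h11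
      · have h357 : p = 3 ∨ p = 5 ∨ p = 7 := by
          interval_cases p <;> first | (clear * - hps hsol hj2; omega) | (exfalso; revert hp; norm_num)
        rcases h357 with rfl | rfl | rfl
        · exact Or.inl ⟨rfl, two_three hj (by (clear * - hr1 hrf hr2 hr4 hpr; omega)) h1 h2⟩
        · refine Or.inr (Or.inl ⟨rfl, ?_⟩)
          by_cases hr3 : r = 3
          · exact two_five_sol (hj2 (by norm_num)) (by omega) h1
              (h3.trans (Nat.mul_le_mul_left _ (hsol hr3 rfl (Or.inl rfl))))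
          · exact two_five (hj2 (by norm_num)) (by (clear * - hr1 hrf hr2 hr4 hr6 hpr hr3; omega)) h1 h2
        · refine Or.inr (Or.inr (Or.inl ⟨rfl, ?_⟩))
          have hj3 : 3 ≤ j := by
            by_contra hj3
            have : i < 3 := by omega
            interval_cases i <;> revert hd <;> norm_num
          by_cases hr3 : r = 3
          · exact two_seven_sol hj3 (by omega) h1 h2 (fun hn =>
              h3.trans (Nat.mul_le_mul_left _ (hsol hr3 rfl (by omega))))
          · exact two_seven hj3 (by (clear * - hr1 hrf hr2 hr4 hr3; omega)) h1 h2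
      · refine Or.inr (Or.inr (Or.inr ?_))
        refine two_eleven hp h11 hij hd hi (by omega) h1 h2 (fun hn => ?_)
        by_cases hr3 : r = 3
        · exact Or.inr (h3.trans (Nat.mul_le_mul_left _ (hsol hr3 rfl (Or.inr (Or.inl hn)))))
        · left; omega
    · right; left
      refine ⟨rfl, ?_⟩
      have hp4 : p ≠ 4 := fun h => by rw [h] at hp; revert hp; norm_num
      refine s_three hp (by (clear * - hp2 hp1 hps hp4; omega)) hij hd hi ?_ h1 h2
      obtain ⟨c, hc⟩ := hsq
      omega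
  · right; right
    refine s_five hp (by (clear * - hp2 hp1; omega)) hs hs5 hr hij hd hi rfl ?_ hsq h1 h2
    obtain ⟨c, hc⟩ := hsq
    have hc0 : c ≠ 0 := by
      rintro rfl
      omega
    have : s * 1 ≤ s * c := Nat.mul_le_mul_left _ (by omega)
    omega

end Cfsg.Agent.H37.NW
end
end
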